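import Cfsg.Agent.N2.Ex.K.C4Lin
import Cfsg.Agent.H296.FFourGam

/-!
# S3519, exceptional groups, box (K): the shift and the invariant form of `F₄` in characteristic two (helper68)
-/

set_option autoImplicit false
set_option linter.unusedSectionVars false

namespace Cfsg.Agent.N2.Ex.K.C4

open Matrix Cfsg Cfsg.Lie Cfsg.Lie.ChevalleyDatum
open Cfsg.Agent.ChevalleyStructure Cfsg.Agent.ChevalleyStructure.GraphSparse Cfsg.Agent.ChevalleyStructure.GraphColumns
  Cfsg.Agent.ChevalleyStructure.GraphCheck Cfsg.Agent.ChevalleyStructure.GraphSound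
  Cfsg.Agent.ChevalleyStructure.GraphTabF4
open Cfsg.Agent.H79.SimpleGen Cfsg.Agent.H296.FFour

set_option maxRecDepth 100000

/-- decoding of a shifted index -/
def dc (n : ℕ) : Option chevF4.Idx :=
  if h : n - 1 < chevF4.rank then (if n = 0 then none else some (Sum.inl ⟨n - 1, h⟩))
  else if h' : n - 5 < chevF4.nroots then some (Sum.inr ⟨n - 5, h'⟩) else none

/-- the pairing of the indices outside the short ideal -/
def piL : List ℕ := [0, 0, 4, 3, 52, 51, 50, 0, 48, 47, 46, 0, 0, 0, 0, 0, 0, 0, 0, 37, 36, 35, 0, 0, 0, 31, 30, 29, 28, 27,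
  26, 0, 0, 0, 22, 21, 20, 0, 0, 0, 0, 0, 0, 0, 0, 11, 10, 9, 0, 7, 6, 5]

/-- the inverse of the shift -/
def tauL : List ℕ := [4, 3, 0, 0, 0, 0, 0, 5, 0, 0, 0, 6, 7, 9, 20, 10, 21, 26, 28, 0, 0, 0, 11, 22, 27, 0, 0, 0, 0, 0, 0,
  30, 35, 46, 0, 0, 0, 29, 31, 36, 47, 37, 48, 50, 51, 0, 0, 0, 52, 0, 0, 0]

/-- the partial map of a list -/
def pf (L : List ℕ) (a : chevF4.Idx) : Option chevF4.Idx := dc (L.getD (enc chevF4 a) 0)

theorem tau_iff : ∀ a c, pf tauL a = some c ↔ tabF4.sig.getD (enc chevF4 c) 0 = enc chevF4 a + 1 := by decide +kernel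

theorem pi_iff : ∀ a c, pf piL a = some c ↔ piL.getD (enc chevF4 a) 0 = enc chevF4 c + 1 := by decide +kernel

theorem tau_sig : ∀ a c, pf tauL a = some c ↔ pf tabF4.sig c = some a := by decide +kernel

theorem pi_pi : ∀ a c, pf piL a = some c ↔ pf piL c = some a := by decide +kernel

theorem t1 : ∀ a, ((pf tauL a).bind (pf piL)).bind (pf piL) = pf tauL a := by decide +kernel

theorem t2 : ∀ a, (pf piL a).bind (pf piL) = some a ∧ (pf tauL a).bind (pf tabF4.sig) = none ∨
    (pf piL a).bind (pf piL) = none ∧ (pf tauL a).bind (pf tabF4.sig) = some a := by decide +kernel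

theorem t3 : ∀ a, (pf tabF4.sig a).bind (pf tauL) = (pf piL a).bind (pf piL) := by decide +kernel

theorem pi_le : ∀ i < 52, piL.getD i 0 ≤ 52 := by decide +kernel

theorem tau_inl : ∀ i : Fin chevF4.rank, pf tauL (Sum.inl i) = none ∨ i = ⟨0, by decide⟩ ∨ i = ⟨1, by decide⟩ := by
  decide +kernel

/-- the table of the form -/
noncomputable def actB (i j : ℕ) : SV := bif Nat.beq (piL.getD i 0) (j + 1) then [(0, 0, 1)] else []

/-- the invariance of the form -/
noncomputable def chkB (r : ℕ) : Bool :=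
  allB 52 fun j => allB 52 fun k => eqv 2 (ap2 actB (tabF4.col r j) (tabF4.col r k)) (actB j k)

theorem cB1 : ∀ i < 4, chkB (chevF4.simple i) = true := by decide +kernel

theorem cB2 : ∀ i < 4, chkB (chevF4.neg (chevF4.simple i)) = true := by decide +kernel

variable {K : Type} [Field K] [CharP K 2]

theorem shift_eq : shift tabF4 chevF4 K = pm K (pf tauL) := by
  ext a c
  simp only [shift, pm, of_apply, tau_iff, Tab.sigCol]
  cases tabF4.sig.getD (enc chevF4 c) 0 with
  | zero => exact (if_neg (by omega)).symm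
  | succ s =>
    change ev (bas chevF4 K) (1 : K) [(s, 0, 1)] a = _
    simp [ev_cons, ev_nil, bas, eq_comm]

theorem form_bas (t : K) (i j : ℕ) : toLinearMap₂' K (pm K (pf piL)) (bas chevF4 K i) (bas chevF4 K j) =
    ev (fun _ => (1 : K)) t (actB i j) := by
  have h0 : ev (fun _ => (1 : K)) t (actB i j) = if piL.getD i 0 = j + 1 then 1 else 0 := by
    unfold actB
    split_ifs with h
    · rw [h, Nat.beq_refl, cond_true, ev_cons, ev_nil]
      simp
    · rw [Bool.eq_false_iff.2 fun e => h (Nat.eq_of_beq_eq_true e), cond_false, ev_nil]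
  rw [h0]
  by_cases hi : i < chevF4.rank + chevF4.nroots
  · by_cases hj : j < chevF4.rank + chevF4.nroots
    · obtain ⟨a, rfl⟩ := exists_enc chevF4 hi
      obtain ⟨c, rfl⟩ := exists_enc chevF4 hj
      rw [bas_enc, bas_enc, toLinearMap₂'_apply', mulVec_single_one, single_one_dotProduct]
      exact if_congr (pi_iff a c) rfl rfl
    · rw [bas_out chevF4 K hj, map_zero, if_neg]
      have h1 := pi_le i hi
      have h2 : ¬ j < 52 := hj
      omega
  · rw [bas_out chevF4 K hi, map_zero, LinearMap.zero_apply, List.getD_eq_default _ _ (not_lt.1 hi), if_neg (by omega)]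

theorem form_x {r : ℕ} (hr : r < 48) (h : chkB r = true) (t : K) :
    (chevF4.x K r t)ᵀ * pm K (pf piL) * chevF4.x K r t = pm K (pf piL) := by
  have : CharP K tabF4.p := (inferInstance : CharP K 2)
  ext a c
  have h1 := ev_of_eqv (fun _ => (1 : K)) t 2 two_pos
    (allB_sound (allB_sound h _ (enc_lt chevF4 a)) _ (enc_lt chevF4 c))
  rw [ev_ap2 (bas chevF4 K) t (bas chevF4 K) _ _ _ (form_bas t), ← x_bas GraphF4.good K hr, ← x_bas GraphF4.good K hr,
    ← form_bas, bas_enc, bas_enc] at h1
  rw [form_entry, h1, toLinearMap₂'_apply', mulVec_single_one, single_one_dotProduct]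
  rfl

/-- the adjoint representation -/
def rho (K : Type) [Field K] : chevF4.group K →* Matrix chevF4.Idx chevF4.Idx K :=
  (Units.coeHom _).comp (chevF4.group K).subtype

theorem rho_xS (r : ℕ) (t : K) : rho K (xS hp4.inList r t) = chevF4.x K r t := mat_xS hp4.inList r t

theorem rho_inv_mul (g : chevF4.group K) : rho K g⁻¹ * rho K g = 1 := by rw [← map_mul, inv_mul_cancel, map_one]

theorem rho_mul_inv (g : chevF4.group K) : rho K g * rho K g⁻¹ = 1 := by rw [← map_mul, mul_inv_cancel, map_one]

theorem form_inv (g : chevF4.group K) : (rho K g)ᵀ * pm K (pf piL) * rho K g = pm K (pf piL) := by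
  let H : Subgroup (chevF4.group K) :=
    { carrier := {g | (rho K g)ᵀ * pm K (pf piL) * rho K g = pm K (pf piL)}
      one_mem' := by simp
      mul_mem' := fun {a b} ha hb => by
        have ha' : (rho K a)ᵀ * pm K (pf piL) * rho K a = pm K (pf piL) := ha
        show _ = _
        rw [map_mul, transpose_mul, Matrix.mul_assoc _ (rho K a)ᵀ, ← Matrix.mul_assoc _ (rho K a),
          Matrix.mul_assoc _ _ (rho K a), ha']
        exact hb
      inv_mem' := fun {a} ha => by
        have ha' : (rho K a)ᵀ * pm K (pf piL) * rho K a = pm K (pf piL) := ha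
        show _ = _
        conv_lhs => rw [← ha']
        rw [Matrix.mul_assoc, Matrix.mul_assoc _ (rho K a), rho_mul_inv, Matrix.mul_one, ← Matrix.mul_assoc,
          ← transpose_mul, rho_mul_inv, transpose_one, Matrix.one_mul] }
  have h : H = ⊤ := eq_top_of_simple hp4.inList H
    (fun i hi t => show _ = _ by rw [rho_xS]; exact form_x (tab_simple i hi).2 (cB1 i hi) t)
    fun i hi t => show _ = _ by rw [rho_xS]; exact form_x (tab_simple i hi).1 (cB2 i hi) t
  exact h.ge (Subgroup.mem_top g)

variable [PerfectRing K 2]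

theorem shift_al (g : chevF4.group K) : rho K (al K g) * pm K (pf tauL) = pm K (pf tauL) * rho K g := by
  let H : Subgroup (chevF4.group K) :=
    { carrier := {g | rho K (al K g) * pm K (pf tauL) = pm K (pf tauL) * rho K g}
      one_mem' := by simp
      mul_mem' := fun {a b} ha hb => by
        show _ = _
        rw [map_mul, map_mul, map_mul, Matrix.mul_assoc, hb, ← Matrix.mul_assoc, ha, Matrix.mul_assoc]
      inv_mem' := fun {a} ha => by
        have ha' : rho K (al K a) * pm K (pf tauL) = pm K (pf tauL) * rho K a := ha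
        show _ = _
        rw [map_inv, ← Matrix.mul_one (_ * pm K (pf tauL)), ← rho_mul_inv a, ← Matrix.mul_assoc, Matrix.mul_assoc _ _ (rho K a),
          ← ha', ← Matrix.mul_assoc, rho_inv_mul, Matrix.one_mul] }
  have h : H = ⊤ := eq_top_of_xS_mem hp4.inList H fun r hr t => show _ = _ by
    rw [al_xS hr, rho_xS, rho_xS, ← shift_eq]
    have : CharP K tabF4.p := (inferInstance : CharP K 2)
    exact (shift_mul GraphF4.good K ⟨r, hr⟩ t).symm
  exact h.ge (Subgroup.mem_top g)

theorem dat : Dat (rho K) (al K) (pm K (pf tauL)) (pm K (pf piL)) where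
  s := shift_al
  b := form_inv
  i1 := by rw [pm_mul, pm_mul, funext t1]
  i2 := by rw [pm_tr tau_sig, pm_mul, pm_mul, pm_add t2]
  i3 := by rw [pm_tr tau_sig, pm_mul, pm_mul, funext t3]
  i4 := pm_tr pi_pi

end Cfsg.Agent.N2.Ex.K.C4
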