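import Cfsg.Agent.N2.Ex.K.Base
import Cfsg.Agent.N2.Ex.K.Tor
import Cfsg.Agent.N2.Ex.K.C4Tab
import Cfsg.Agent.DS.Ex.ExtU

/-!
# S3519, exceptional groups, box (K): the cofixed space for `F₄`, `p = 2` (helper68)

* `irr_al` : the special isogeny preserves irreducibility;
* `core` : the bound for every submodule which contains the vectors `z v - v`.
-/

set_option autoImplicit false
set_option linter.unusedSectionVars false

namespace Cfsg.Agent.N2.Ex.K.C4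

open Matrix Cfsg Cfsg.Lie Cfsg.Lie.ChevalleyDatum
open Cfsg.Agent.Nodes.RGDChev Cfsg.Agent.Tits.Roots Cfsg.Agent.KFacts.RgdChevCoord
open Cfsg.Agent.BpExc Cfsg.Agent.H469.Exc Cfsg.Agent.H469.Exc.SigFr Cfsg.Agent.DS.Ex Cfsg.Agent.DS.Nt
open Cfsg.Agent.H296.FFour Cfsg.Agent.DS.Ex.Untw

/-- the transpose of the special isogeny -/
def psi : (Fin 4 → ℤ) →+ (Fin 4 → ℤ) where
  toFun a := ![2 * a 3, 2 * a 2, a 1, a 0]
  map_zero' := by decide
  map_add' a b := by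
    funext i
    fin_cases i <;> simp [mul_add]

theorem psi_vec : ∀ r < 48, psi (vec chevF4 4 (br r)) = (la r : ℤ) • vec chevF4 4 r := by decide +kernel

theorem psi_psi (a : Fin 4 → ℤ) : psi (psi a) = (2 : ℤ) • a := by
  funext i
  fin_cases i <;> simp [psi]

theorem inv_PL {μ : (Fin 4 → ℤ) →+ ℝ} {x : YY chevF4 2} (hx : x ∈ PL hpF4 2 μ) :
    (al (KK 2))⁻¹ x ∈ PL hpF4 2 (μ.comp psi) := by
  have h1 : ∀ s < chevF4.nroots, Act hpF4.inList (al (KK 2))⁻¹ s (br s) := fun s hs => by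
    have h := (act_al (tab s hs).1).inv
    rwa [(tab s hs).2.1] at h
  have h2 : PL hpF4 2 μ ≤ (PL hpF4 2 (μ.comp psi)).comap (al (KK 2))⁻¹.toMonoidHom := by
    refine PL_le (fun t ht => T_le_PL (mem_TT_of_act (fun s hs => ⟨_, h1 s hs⟩) ht)) fun a ha h0 y hy => ?_
    obtain ⟨⟨r, hr⟩, rfl⟩ := exists_idx hpF4 ha
    obtain ⟨-, hs, c, φ, -, h3, -⟩ := h1 r hr
    obtain ⟨t, ht⟩ := (LangThm.mem_XX_vec hpF4 hr).1 hy
    obtain rfl : y = xs hpF4.inList r t := Subtype.ext ht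
    refine X_le_PL (rt_vec hpF4 ⟨_, hs⟩) ?_ ((LangThm.mem_XX_vec hpF4 hs).2 ⟨_, congrArg Subtype.val (h3 t)⟩)
    rw [AddMonoidHom.comp_apply, psi_vec r hr, map_zsmul, zsmul_eq_mul]
    exact mul_nonneg (by positivity) h0
  exact h2 hx

/-- the special isogeny preserves irreducibility -/
theorem irr_al {Z : Subgroup (YY chevF4 2)} (h : Irr hpF4 2 Z) : Irr hpF4 2 (Z.map (al (KK 2)).toMonoidHom) := by
  intro g μ hg
  have h1 := h ((al (KK 2))⁻¹ g) (μ.comp psi) fun r hr => by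
    have h2 := inv_PL (hg _ ⟨r, hr, rfl⟩)
    rw [map_mul, map_mul, map_inv] at h2
    exact (MulAut.inv_apply_self _ (al (KK 2)) r) ▸ h2
  refine AddMonoidHom.ext fun a => ?_
  have h2 : μ (psi (psi a)) = 0 := DFunLike.congr_fun h1 _
  rw [psi_psi, map_zsmul] at h2
  simpa using h2

theorem le_two (hS : BoxSS) {Z : Set (YY chevF4 2)} {R : Subgroup (YY chevF4 2)} (hR : Irr hpF4 2 R)
    (h : ∀ r ∈ R, ∃ z ∈ Z, al (KK 2) z = r) : Module.finrank (KK 2) (Wv (rho (KK 2)) (pm (KK 2) (pf piL)) Z) ≤ 2 := by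
  obtain ⟨g, hg⟩ := boxTor chevF4 4 _ hpF4 (Or.inl rfl) 2 _ (hS chevF4 4 _ hpF4 (Or.inl rfl) 2 R hR)
  refine dat.le_two g (Sum.inl ⟨0, by decide⟩) (Sum.inl ⟨1, by decide⟩) fun v hv u e h0 h1 => funext fun a => ?_
  rcases a with i | s
  · rcases tau_inl i with k | rfl | rfl
    · rw [pm_mulVec, k]
      rfl
    · exact h0
    · exact h1
  · rw [← e]
    refine hg v (fun r hr => ?_) s
    obtain ⟨z, hz, rfl⟩ := h r hr
    exact hv z hz

/-- **the cofixed space** -/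
theorem core (hS : BoxSS) {Z : Subgroup (YY chevF4 2)} (hZ : Irr hpF4 2 Z) {C : Submodule (KK 2) (chevF4.Idx → KK 2)}
    (h : ∀ z ∈ Z, ∀ v, ad chevF4 2 z v - v ∈ C) : Module.finrank (KK 2) ((chevF4.Idx → KK 2) ⧸ C) ≤ 4 := by
  have h1 := quot_le (ρ := rho (KK 2)) (Z := (Z : Set (YY chevF4 2))) h
  have h2 := (dat (K := KK 2)).split (Z : Set (YY chevF4 2))
  have h3 := le_two hS (Z := al (KK 2) ⁻¹' (Z : Set (YY chevF4 2))) hZ fun r hr =>
    ⟨(al (KK 2)).symm r, by simpa using hr, by simp⟩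
  have h4 := le_two hS (Z := (Z : Set (YY chevF4 2))) (irr_al hZ) fun r hr => hr
  omega

end Cfsg.Agent.N2.Ex.K.C4
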