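import Cfsg.Agent.N2.Ex.K.Base
import Cfsg.Agent.N2.Ex.K.CoTab

/-!
# S3519, exceptional groups, box (K): cofixed and fixed vectors of a perfect subgroup (helper68)
-/

set_option autoImplicit false
set_option linter.unusedSectionVars false

namespace Cfsg.Agent.N2.Ex.K

open Cfsg Cfsg.Lie Cfsg.Lie.ChevalleyDatum
open Cfsg.Agent.Nodes.RGDChev Cfsg.Agent.KFacts.RgdChevCoord Cfsg.Agent.H469.Exc Cfsg.Agent.DS.Ex Cfsg.Agent.DS.Nt

variable {D : ChevalleyDatum} {l : ℕ} {M : CoxeterMatrix (Fin l)} {p : ℕ} [Fact p.Prime]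

theorem Co.exists_ok (hD : Typ D) (h2 : D = chevF4 → p ≠ 2) :
    ∃ c : ℕ → ℤ, Co.OkA D c ∧ ∀ s < D.nroots, (c s : KK p) ≠ 0 := by
  rcases hD with rfl | rfl | rfl | rfl
  · refine ⟨_, Co.ok4, fun s hs => ?_⟩
    rcases Co.cF_cases s hs with e | e <;> rw [e]
    · simp
    · exact fun h => h2 rfl ((Nat.prime_dvd_prime_iff_eq Fact.out Nat.prime_two).1
        ((CharP.cast_eq_zero_iff (KK p) p 2).1 (by exact_mod_cast h)))
  · exact ⟨_, Co.ok6, fun _ _ => by simp⟩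
  · exact ⟨_, Co.ok7, fun _ _ => by simp⟩
  · exact ⟨_, Co.ok8, fun _ _ => by simp⟩

/-- **the cofixed space of a perfect subgroup is not larger than its fixed space** -/
theorem co (hp : IsType D l M) (hD : Typ D) (h2 : D = chevF4 → p ≠ 2) {Z : Subgroup (YY D p)} (perf : ⁅Z, Z⁆ = Z)
    {C : Submodule (KK p) (D.Idx → KK p)} (hC : ∀ z ∈ Z, ∀ v, ad D p z v - v ∈ C) :
    Module.finrank (KK p) ((D.Idx → KK p) ⧸ C) ≤ Module.finrank (KK p) (Fx p (Z : Set (YY D p))) := by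
  obtain ⟨c, hA, hc⟩ := Co.exists_ok hD h2
  exact (C4.quot_le (ρ := Co.rh D (KK p)) (Z := (Z : Set (YY D p))) hC).trans
    (Co.iv_le (fun g => (Co.fm_inv hp.inList hA hc g).1) (fun g => (Co.fm_inv hp.inList hA hc g).2) perf fun _ hv => hv)

end Cfsg.Agent.N2.Ex.K
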