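import Cfsg.Agent.N2.Ex.K.Glue
import Cfsg.Agent.N2.Ex.K.Co

/-!
# S3519, exceptional groups: the box (K) (helper70, helper68)
-/

set_option autoImplicit false

namespace Cfsg.Agent.N2.Ex

theorem K.boxCo : K.BoxCo := fun _ _ _ hp hD _ _ h2 _ perf _ hC => K.co hp hD h2 perf hC

/-- **the box (K)** -/
theorem boxK : BoxK := boxK_of K.boxCo

end Cfsg.Agent.N2.Ex
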