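import Cfsg.Agent.N2.Ex.K.Base

/-!
# S3519, exceptional groups, box (K): an invariant parabolic subgroup gives an invariant `p`-subgroup (helper70)

* `exists_fix_S` : stable unipotent groups generated by root groups have non-trivial fixed points;
* `UL μ` : the unipotent radical of `PL μ`; `Frm.sem`; `boxEnd : BoxEnd`.
-/

set_option autoImplicit false
set_option linter.unusedSectionVars false

namespace Cfsg.Agent.N2.Ex.K

open CoxeterSystem Cfsg Cfsg.Lie Cfsg.Lie.ChevalleyDatum Matrix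
open Cfsg.Agent.ChevalleyStructure Cfsg.Agent.ChevalleyStructure.Elts Cfsg.Agent.ChevalleyStructure.CoxeterGeom
  Cfsg.Agent.ChevalleyStructure.CoxeterGeomTypes
open Cfsg.Agent.Tits.Roots Cfsg.Agent.Tits.Core Cfsg.Agent.Nodes Cfsg.Agent.Nodes.Reps Cfsg.Agent.Nodes.BNOf
  Cfsg.Agent.Nodes.RGDChev Cfsg.Agent.Nodes.Bruhat Cfsg.Agent.Nodes.NormalForm
open Cfsg.Agent.KFacts.RgdField Cfsg.Agent.KFacts.RgdChevCoord
open Cfsg.Agent.BpExc Cfsg.Agent.BpExc.TorCent Cfsg.Agent.BpExc.TorChev Cfsg.Agent.BpExc.Tow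
  Cfsg.Agent.BpExc.TowChev Cfsg.Agent.BpExc.Fr Cfsg.Agent.BpExc.LangFr
open Cfsg.Agent.H469.Exc Cfsg.Agent.H129.TorusChar Cfsg.Agent.DS.Ex Cfsg.Agent.DS.Nt Cfsg.Agent.DS.Ex.Tor
  Cfsg.Agent.SB.Exc

section Dat

variable {p : ℕ} [Fact p.Prime] {k : Type} [Field k] [CharP k p] [IsAlgClosed k] {Y : Type} [Group Y] {N : Type}
  [Fintype N] [DecidableEq N] {ρ : Y →* GL N k} {F : MulAut Y} {G : Subgroup Y} (E : DL.Datum p ρ F G)

theorem exists_fix_X {a : E.I → ℤ} (ha : E.Rt a) (hg : E.g a = a) : ∃ ξ ∈ E.X a, ξ ≠ 1 ∧ F ξ = ξ := by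
  obtain ⟨c, hc, h1⟩ := E.F_x a ha
  rw [hg] at h1
  have he : E.ex a ≠ 0 := by
    intro h0
    rw [h0] at h1
    obtain ⟨d, e, H⟩ := E.exists_split'
    have h2 : ∀ (m : ℕ) u, (F ^ m) (E.x a u) = E.x a (c ^ m * u) := by
      intro m
      induction m with
      | zero => intro u; simp
      | succ m ih => intro u; rw [pow_succ, MulAut.mul_apply, h1, ih, pow_zero, pow_one, pow_succ, mul_assoc]
    have h3 : ∀ u : k, u ^ p ^ e = c ^ d * u := fun u => E.x_inj _ ha (by rw [← H.x _ ha, h2])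
    have h4 := h3 1
    rw [one_pow, mul_one] at h4
    refine Set.infinite_univ ((DL.finite_pow_eq (k := k) H.e_pos).subset fun u _ => ?_)
    show u ^ _ = u
    rw [h3, ← h4, one_mul]
  have hQ : 1 < p ^ E.ex a := Nat.one_lt_pow he (Fact.out : p.Prime).one_lt
  obtain ⟨n, hn⟩ : ∃ n, p ^ E.ex a = n + 1 := ⟨p ^ E.ex a - 1, by omega⟩
  obtain ⟨u, hu⟩ := IsAlgClosed.exists_pow_nat_eq c⁻¹ (n := n) (by omega)
  refine ⟨E.x a u, E.x_mem ha u, fun h0 => ?_, by rw [h1, hn, pow_succ, hu, mul_inv_cancel_left₀ hc]⟩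
  rw [(E.x_eq_one_iff ha).1 h0, zero_pow (by omega)] at hu
  exact inv_ne_zero hc hu.symm

theorem exists_fix_S {A : Set (E.I → ℤ)} (hA : ∀ a ∈ A, E.Rt a) (h : ∀ a ∈ A, E.g a ∈ A) (lam : (E.I → ℤ) →+ ℤ)
    (hl : ∀ a ∈ A, 0 < lam a) (hne : A.Nonempty) : ∃ u ∈ E.S A, u ≠ 1 ∧ F u = u := by
  classical
  obtain ⟨L, hL, hm⟩ := DL.exists_conv hA lam hl
  obtain ⟨a, L, rfl⟩ := List.exists_cons_of_ne_nil (l := L) (by
    rintro rfl
    obtain ⟨a, ha⟩ := hne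
    exact List.not_mem_nil ((hm a).2 ha))
  obtain ⟨⟨f, hf0, hf⟩, -⟩ := hL
  have ha : a ∈ A := (hm a).1 List.mem_cons_self
  have hi : ∀ m, E.g^[m] a ∈ A := fun m => by
    induction m with
    | zero => exact ha
    | succ m ih => rw [Function.iterate_succ_apply']; exact h _ ih
  have hX : ∀ m, ∀ ξ ∈ E.X a, (F ^ m) ξ ∈ E.X (E.g^[m] a) := fun m ξ hξ => by
    obtain ⟨u, rfl⟩ := (E.mem_X a (hA a ha) ξ).1 hξ
    obtain ⟨c, -, h1⟩ := E.F_pow_x m (hA a ha)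
    rw [h1]
    exact E.x_mem (hA _ (hi m)) _
  have h0 : ∃ d, 0 < d ∧ E.g^[d] a = a := by
    obtain ⟨d, e, H⟩ := E.exists_split'
    refine ⟨d, H.d_pos, of_not_not fun hc => one_ne_zero ((E.x_eq_one_iff (hA a ha)).1
      (E.eq_one_of_mem_X_X (hA _ (hi d)) (hA a ha) hc ?_ (E.x_mem (hA a ha) 1)))⟩
    have h1 := hX d _ (E.x_mem (hA a ha) 1)
    rwa [H.x _ (hA a ha), one_pow] at h1
  obtain ⟨ξ, hξ, h1, h2⟩ := exists_fix_X (E.pow (Nat.find_spec h0).1) (a := a) (hA a ha) (Nat.find_spec h0).2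
  obtain ⟨y, hy0, hy⟩ : ∃ y : ℕ → Y, y 0 = 1 ∧ ∀ m, y (m + 1) = y m * (F ^ m) ξ :=
    ⟨fun m => Nat.rec 1 (fun m z => z * (F ^ m) ξ) m, rfl, fun _ => rfl⟩
  have h3 : ∀ m, y (m + 1) = ξ * F (y m) := by
    intro m
    induction m with
    | zero => simp [hy, hy0]
    | succ m ih =>
      rw [hy (m + 1)]
      conv_lhs => rw [ih]
      rw [hy m, map_mul, pow_succ', MulAut.mul_apply, mul_assoc]
  have h4 : ∀ m, m < Nat.find h0 → ξ⁻¹ * y (m + 1) ∈ E.S {x | E.Rt x ∧ 0 < f x} := by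
    intro m
    induction m with
    | zero => intro _; simp [hy, hy0]
    | succ m ih =>
      intro hm'
      rw [hy (m + 1), ← mul_assoc]
      refine mul_mem (ih (by omega)) (RGD.le_Sup (S := {x | E.Rt x ∧ 0 < f x}) ⟨hA _ (hi _), hf _ ?_⟩ (hX _ ξ hξ))
      exact (List.mem_cons.1 ((hm _).2 (hi (m + 1)))).resolve_left fun e => Nat.find_min h0 hm' ⟨m.succ_pos, e⟩
  have h5 : ∀ m, y m ∈ E.S A := fun m => by
    induction m with
    | zero => rw [hy0]; exact one_mem _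
    | succ m ih => rw [hy]; exact mul_mem ih (RGD.le_Sup (hi m) (hX m ξ hξ))
  obtain ⟨m, hm'⟩ : ∃ m, Nat.find h0 = m + 1 := ⟨Nat.find h0 - 1, by have := (Nat.find_spec h0).1; omega⟩
  have h7 := (hy (m + 1)).symm.trans (h3 (m + 1))
  rw [← hm', h2, hm'] at h7
  obtain ⟨z, hz, e⟩ := E.lang_S hA h (RGD.le_Sup ha hξ)
  refine ⟨z * y (m + 1) * z⁻¹, mul_mem (mul_mem hz (h5 _)) (inv_mem hz), fun h8 => h1 ?_, ?_⟩
  · have h9 := h4 m (by omega)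
    rw [conj_eq_one_iff.1 h8, mul_one, inv_mem_iff] at h9
    exact E.sup_inf_sup' f lam h9 (RGD.le_Sup (S := {x | E.Rt x ∧ f x ≤ 0 ∧ 0 < lam x}) ⟨hA a ha, hf0.le, hl a ha⟩ hξ)
  · rw [map_mul, map_mul, map_inv]
    calc _ = z * (z⁻¹ * F z * F (y (m + 1))) * (F z)⁻¹ := by group
      _ = _ := by rw [← e, ← h7, e]; group

end Dat

variable {D : ChevalleyDatum} {l : ℕ} {M : CoxeterMatrix (Fin l)} {hp : IsType D l M} {p : ℕ} [Fact p.Prime]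

variable (hp p) in
/-- the unipotent radical of `PL μ` -/
noncomputable def UL (μ : (Fin l → ℤ) →+ ℝ) : Subgroup (YY D p) := MS D p {a | RT hp a ∧ 0 < μ a}

variable {μ : (Fin l → ℤ) →+ ℝ}

theorem X_le_UL {a : Fin l → ℤ} (ha : RT hp a) (h : 0 < μ a) : XX D l (KK p) a ≤ UL hp p μ :=
  RGD.le_Sup (S := {a | RT hp a ∧ 0 < μ a}) ⟨ha, h⟩

theorem le_normalizer_of {G : Type*} [Group G] {B U : Subgroup G} (h : ∀ x ∈ B, ∀ u ∈ U, x * u * x⁻¹ ∈ U) :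
    B ≤ Subgroup.normalizer (U : Set G) := fun x hx => Subgroup.mem_normalizer_iff.2 fun u => ⟨h x hx u, fun hu => by
  have h1 := h _ (inv_mem hx) _ hu
  rwa [show x⁻¹ * (x * u * x⁻¹) * x⁻¹⁻¹ = u by group] at h1⟩

theorem PL_le_normalizer : PL hp p μ ≤ Subgroup.normalizer (UL hp p μ : Set (YY D p)) := by
  refine PL_le (le_normalizer_of fun t ht u hu => (dat hp p).conj_mem_S_of_T (fun _ h => h.1) ht hu)
    fun b hb h0 => le_normalizer_of fun x hx => ?_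
  have h1 : UL hp p μ ≤ (UL hp p μ).comap (MulAut.conj x).toMonoidHom := RGD.Sup_le fun a ha u hu => by
    show x * u * x⁻¹ ∈ UL hp p μ
    by_cases e : b = a
    · subst e
      exact X_le_UL ha.1 ha.2 (mul_mem (mul_mem hx hu) (inv_mem hx))
    · have e' : b ≠ -a := fun e' => by
        rw [e', map_neg] at h0
        exact absurd ha.2 (not_lt.2 (neg_nonneg.1 h0))
      have h2 : x * u * x⁻¹ * u⁻¹ ∈ MS D p {c | Btwn M.toCoxeterSystem hp.isCartan b a c} :=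
        (dat hp p).comm hb ha.1 e e' hx hu
      rw [← inv_mul_cancel_right (x * u * x⁻¹) u]
      refine mul_mem (RGD.Sup_mono ?_ h2) (X_le_UL ha.1 ha.2 hu)
      rintro c ⟨hc, m, i, j, hm, hi, hj, e'⟩
      refine ⟨hc, ?_⟩
      have h3 := congrArg μ e'
      rw [map_add, map_zsmul, map_zsmul, map_zsmul, zsmul_eq_mul, zsmul_eq_mul, zsmul_eq_mul] at h3
      refine (mul_pos_iff_of_pos_left (Int.cast_pos.2 hm : (0 : ℝ) < m)).1 ?_
      rw [h3]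
      exact add_pos_of_nonneg_of_pos (mul_nonneg (Int.cast_nonneg hi.le) h0) (mul_pos (Int.cast_pos.2 hj) ha.2)
  exact fun u hu => h1 hu

theorem pos_sub (hd : ∀ i, 0 ≤ μ (sr i)) : {a | RT hp a ∧ 0 < μ a} ⊆ RGD.Pos M.toCoxeterSystem hp.isCartan :=
  fun a ha => ⟨ha.1, ha.1.pos_or_neg.resolve_right fun h => by
    have h1 := dom_nonneg hd (neg_nonneg.2 h)
    rw [map_neg] at h1
    exact absurd ha.2 (not_lt.2 (neg_nonneg.1 h1))⟩

theorem UL_le_U (hd : ∀ i, 0 ≤ μ (sr i)) : UL hp p μ ≤ MS D p (RGD.Pos M.toCoxeterSystem hp.isCartan) :=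
  RGD.Sup_mono (pos_sub hd)

theorem PL_eq : PL hp p μ = TT D (KK p) ⊔ MS D p {a | RT hp a ∧ 0 ≤ μ a} := sup_comm _ _

variable {φ σ : MulAut (YY D p)} {y : YY D p} {ψ : (Fin l → ℤ) →+ (Fin l → ℤ)} {Γ : Subgroup (MulAut (YY D p))}

theorem Frm.map_UL (h : Frm hp p φ y ψ) {s : ℝ} (hs : 0 < s) (e : ∀ a, μ (ψ a) = s * μ a) {u : YY D p}
    (hu : u ∈ UL hp p μ) : y * φ u * y⁻¹ ∈ UL hp p μ := by
  obtain ⟨g, hg, h1⟩ := h.root
  have h2 : UL hp p μ ≤ (UL hp p μ).comap (MulAut.conj y * φ).toMonoidHom := RGD.Sup_le fun a ha x hx => by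
    refine X_le_UL (hg.mapsTo ha.1) ?_ (((h1 a ha.1).2 x).2 hx)
    obtain ⟨c, hc, e'⟩ := (h1 a ha.1).1
    refine (mul_pos_iff_of_pos_left hs).1 ?_
    rw [← e, e', map_zsmul, zsmul_eq_mul]
    exact mul_pos (Int.cast_pos.2 hc) ha.2
  exact h2 hu

theorem Frm.sem (K : KF hp p σ Γ) (h : Frm hp p σ y ψ) : ∃ g ex Mx, Sem hp p (MulAut.conj y * σ) g ex Mx := by
  obtain ⟨y₀, g, ex, Mx, h0⟩ := K.sem
  have e : ∀ x, (MulAut.conj y * σ) x = y * y₀⁻¹ * (MulAut.conj y₀ * σ) x * (y * y₀⁻¹)⁻¹ := fun x => by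
    rw [MulAut.mul_apply, MulAut.mul_apply, MulAut.conj_apply, MulAut.conj_apply]
    group
  let E : DL.Datum p (D.group (KK p)).subtype (MulAut.conj y₀ * σ) ⊤ :=
    (DL.Ex.chev hp (locFin p) one_pos).newF (K.amb.conj_mul y₀) g ex h0.root h0.x Mx h0.τ
  have h1 := E.rp_pr (E.mem_NN_of_conj (y := y * y₀⁻¹) (Subgroup.mem_top _) fun t ht => by
    obtain ⟨t, rfl⟩ := (MulAut.conj y₀ * σ).surjective t
    rw [← e]
    exact (h.tor t).2 ((E.F_mem_T_iff t).1 ht))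
  obtain ⟨B, hB⟩ : ∃ B : Matrix (Fin l) (Fin l) ℤ, ∀ c,
      y * y₀⁻¹ * DL.Ex.tau hp c * (y * y₀⁻¹)⁻¹ = DL.Ex.tau hp (DL.mon B c) := E.exists_mat h1
  refine ⟨fun a => rA hp (E.pr (y * y₀⁻¹)) (g a), ex, B * Mx, fun a ha => (h0.root a ha).act _, fun a ha => ?_, fun c => ?_⟩
  · obtain ⟨c, hc, h2⟩ := h0.x a ha
    obtain ⟨c', hc', h3⟩ := E.nact h1 (h0.root a ha)
    exact ⟨c' * c, mul_ne_zero hc' hc, fun u => by rw [e, h2, mul_assoc c']; exact h3 _⟩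
  · rw [e, h0.τ, DL.mon_mul]
    exact hB _

/-- **[END]** -/
theorem boxEnd : BoxEnd := by
  intro D l M hp p _ σ Γ K g μ hμ hd H
  have h1 : ∀ φ ∈ Γ, (∃ y ψ, Frm hp p φ y ψ) → ∀ v, g⁻¹ * v * g ∈ UL hp p μ → g⁻¹ * φ v * g ∈ UL hp p μ := by
    intro φ hφ hf v hv
    obtain ⟨y, ψ, s, a1, a2, a3, a4⟩ := H φ hφ hf
    have a5 := (Subgroup.mem_normalizer_iff.1 (PL_le_normalizer a4) _).1 (a1.map_UL a2 a3 hv)
    rw [map_mul, map_mul, map_inv] at a5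
    convert a5 using 1
    group
  refine ⟨(UL hp p μ).comap (MulAut.conj g⁻¹).toMonoidHom ⊓ DL.fix σ, ?_, fun x => ?_, fun _ h => h.2, fun φ hφ u hu => ?_⟩
  · obtain ⟨y, ψ, s, a1, a2, a3, a4⟩ := H σ K.mem K.frmσ
    obtain ⟨g', ex, Mx, h0⟩ := a1.sem K
    let E : DL.Datum p (D.group (KK p)).subtype (MulAut.conj y * σ) ⊤ :=
      (DL.Ex.chev hp (locFin p) one_pos).newF (K.amb.conj_mul y) g' ex h0.root h0.x Mx h0.τ
    have a5 : ∀ a, RT hp a → ∃ c : ℝ, 0 < c ∧ μ (g' a) = c * μ a := fun a ha => by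
      refine ⟨s⁻¹ * (p : ℝ) ^ ex a, mul_pos (inv_pos.2 a2) (pow_pos (Nat.cast_pos.2 (Fact.out : p.Prime).pos) _), ?_⟩
      have b1 : ψ (g' a) = ((p : ℤ) ^ ex a) • a := by
        refine sep hp p fun t ht => ?_
        obtain ⟨c, rfl⟩ := (DL.Ex.mem_TT_iff hp t).1 ht
        have b2 := E.χ_F ha ht
        rw [show (MulAut.conj y * σ) (DL.Ex.tau hp c) = _ from h0.τ c] at b2
        rw [← a1.chr _ ht, show y * σ (DL.Ex.tau hp c) * y⁻¹ = _ from h0.τ c, (isMC_cX hp ht).zsmul, DL.Ex.cX_tau,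
          DL.Ex.cX_tau, ← Nat.cast_pow, zpow_natCast]
        exact (E.χ_τ _ _).symm.trans (b2.trans (congrArg (· ^ p ^ ex a) (E.χ_τ a c)))
      have b2 := a3 (g' a)
      rw [b1, map_zsmul, zsmul_eq_mul, Int.cast_pow, Int.cast_natCast] at b2
      rw [mul_assoc, b2, inv_mul_cancel_left₀ a2.ne']
    obtain ⟨c, hc, e⟩ := E.lang_TS (A := {a | RT hp a ∧ 0 ≤ μ a}) (fun _ h => h.1) (fun a ha => ⟨h0.root a ha.1, by
      obtain ⟨c, b1, b2⟩ := a5 a ha.1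
      show 0 ≤ μ (g' a)
      rw [b2]
      exact mul_nonneg b1.le ha.2⟩) ((PL_eq (hp := hp) (p := p) (μ := μ)).le a4)
    obtain ⟨i, hi⟩ := exists_sr_ne hμ
    obtain ⟨u, hu, b1, b2⟩ := exists_fix_S E (A := {a | RT hp a ∧ 0 < μ a}) (fun _ h => h.1) (fun a ha => ⟨h0.root a ha.1, by
      obtain ⟨c, b1, b2⟩ := a5 a ha.1
      show 0 < μ (g' a)
      rw [b2]
      exact mul_pos b1 ha.2⟩) _ (fun a ha => E.ht_pos_of_pos a (pos_sub hd ha))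
      ⟨sr i, isRoot_sr _ _ i, lt_of_le_of_ne (hd i) hi.symm⟩
    refine (Subgroup.ne_bot_iff_exists_ne_one).2 ⟨⟨g * (c⁻¹ * u * c⁻¹⁻¹) * g⁻¹, ?_, ?_⟩, fun e' => b1 ?_⟩
    · show g⁻¹ * (g * (c⁻¹ * u * c⁻¹⁻¹) * g⁻¹) * g⁻¹⁻¹ ∈ UL hp p μ
      rw [show g⁻¹ * (g * (c⁻¹ * u * c⁻¹⁻¹) * g⁻¹) * g⁻¹⁻¹ = c⁻¹ * u * c⁻¹⁻¹ by group]
      exact (Subgroup.mem_normalizer_iff.1 (PL_le_normalizer (inv_mem ((PL_eq (hp := hp) (p := p) (μ := μ)).ge hc))) _).1 hu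
    · show σ (g * (c⁻¹ * u * c⁻¹⁻¹) * g⁻¹) = g * (c⁻¹ * u * c⁻¹⁻¹) * g⁻¹
      have b3 : σ u = y⁻¹ * u * y := by
        conv_rhs => rw [← show y * σ u * y⁻¹ = u from b2]
        group
      have b4 : σ g = g * c⁻¹ * y * σ c := by
        rw [show σ g = g * (g⁻¹ * σ g * y⁻¹) * y by group, e, MulAut.mul_apply, MulAut.conj_apply]
        group
      simp only [map_mul, map_inv]
      rw [b3, b4]
      group
    · exact conj_eq_one_iff.1 (conj_eq_one_iff.1 (congrArg Subtype.val e'))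
  · obtain ⟨k, hk⟩ := (dat hp p).isPGroup_U ⟨_, UL_le_U hd x.2.1⟩
    refine ⟨k, Subtype.ext ((MulAut.conj g⁻¹).injective ?_)⟩
    rw [Subgroup.coe_pow, map_pow, Subgroup.coe_one, map_one]
    exact congrArg Subtype.val hk
  · refine ⟨?_, ?_⟩
    · obtain ⟨φ', b1, b2, b3⟩ := K.exists_frm hφ (Set.finite_singleton u)
      show g⁻¹ * φ u * g⁻¹⁻¹ ∈ UL hp p μ
      rw [inv_inv, ← b3 u rfl]
      refine h1 φ' b1 b2 u ?_
      rw [← inv_inv g, inv_inv g⁻¹]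
      exact hu.1
    · show σ (φ u) = φ u
      rw [← MulAut.mul_apply, ← K.comm φ hφ, MulAut.mul_apply, show σ u = u from hu.2]

end Cfsg.Agent.N2.Ex.K
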