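import Cfsg.Agent.N2.Ex.K.Base
import Cfsg.Agent.E7P.Kf.Abs
import Cfsg.Agent.H795.IrrTypes

/-!
# S3519, exceptional groups, box (K): Kempf's canonical parabolic subgroup, abstract form (helper70)

* `cv`, `ex`, `BB` : the real root space with the invariant form; `Cf ψ s` : `ψ` is conformal; `Frm.cf`;
* `Sta S₀` : state functions; `kempf`.
-/

set_option autoImplicit false
set_option linter.unusedSectionVars false

namespace Cfsg.Agent.N2.Ex.K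

open CoxeterSystem Cfsg Cfsg.Lie Cfsg.Lie.ChevalleyDatum Matrix
open Cfsg.Agent.ChevalleyStructure Cfsg.Agent.ChevalleyStructure.Elts Cfsg.Agent.ChevalleyStructure.CoxeterGeom
  Cfsg.Agent.ChevalleyStructure.CoxeterGeomTypes
open Cfsg.Agent.Tits.Roots Cfsg.Agent.Tits.Core Cfsg.Agent.Nodes Cfsg.Agent.Nodes.Reps Cfsg.Agent.Nodes.BNOf
  Cfsg.Agent.Nodes.RGDChev Cfsg.Agent.Nodes.Bruhat Cfsg.Agent.Nodes.NormalForm
open Cfsg.Agent.KFacts.RgdField Cfsg.Agent.KFacts.RgdChevCoord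
open Cfsg.Agent.BpExc Cfsg.Agent.BpExc.TorCent Cfsg.Agent.BpExc.TorChev Cfsg.Agent.BpExc.Tow
  Cfsg.Agent.BpExc.TowChev Cfsg.Agent.BpExc.Fr Cfsg.Agent.BpExc.LangFr
open Cfsg.Agent.H469.Exc Cfsg.Agent.H129.TorusChar Cfsg.Agent.DS.Ex Cfsg.Agent.DS.Nt Cfsg.Agent.DS.Ex.Tor
  Cfsg.Agent.SB.Exc
open Cfsg.Agent.E7P.Kf (PD IsCl Opt)

section Euc

variable {l : ℕ}

/-- lattice points -/
def cv (a : Fin l → ℤ) : Fin l → ℝ := fun i => (a i : ℝ)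

theorem cv_add (a b : Fin l → ℤ) : cv (a + b) = cv a + cv b := funext fun _ => Int.cast_add _ _

theorem cv_sub (a b : Fin l → ℤ) : cv (a - b) = cv a - cv b := funext fun _ => Int.cast_sub _ _

theorem cv_zsmul (c : ℤ) (a : Fin l → ℤ) : cv (c • a) = (c : ℝ) • cv a := funext fun _ => Int.cast_mul _ _

theorem cv_zero : cv (0 : Fin l → ℤ) = 0 := funext fun _ => Int.cast_zero

theorem cv_ne {a : Fin l → ℤ} (h : a ≠ 0) : cv a ≠ 0 := fun e => h (funext fun i => Int.cast_eq_zero.1 (congrFun e i))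

theorem cv_sr (i : Fin l) : cv (sr i) = Pi.basisFun ℝ (Fin l) i := by
  funext j
  rw [Pi.basisFun_apply]
  by_cases h : j = i
  · subst h
    rw [cv, sr_self, Pi.single_eq_same, Int.cast_one]
  · rw [cv, sr_ne h, Pi.single_eq_of_ne h, Int.cast_zero]

theorem lin_ext {F : Type*} [AddCommGroup F] [Module ℝ F] {f g : (Fin l → ℝ) →ₗ[ℝ] F}
    (h : ∀ i, f (cv (sr i)) = g (cv (sr i))) : f = g :=
  (Pi.basisFun ℝ (Fin l)).ext fun i => by rw [← cv_sr]; exact h i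

/-- `cv` as an additive map -/
def cvH : (Fin l → ℤ) →+ (Fin l → ℝ) := ⟨⟨cv, cv_zero⟩, cv_add⟩

theorem map_sum_sr {F : Type*} [AddCommGroup F] [Module ℝ F] (f : (Fin l → ℤ) →+ F) (a : Fin l → ℤ) :
    f a = ∑ i, (a i : ℝ) • f (sr i) := by
  conv_lhs => rw [IsMC.eq_sum_sr a]
  rw [map_sum]
  exact Finset.sum_congr rfl fun i _ => by rw [map_zsmul, Int.cast_smul_eq_zsmul]

/-- the real extension -/
noncomputable def ex (ψ : (Fin l → ℤ) →+ (Fin l → ℤ)) : (Fin l → ℝ) →ₗ[ℝ] (Fin l → ℝ) :=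
  (Pi.basisFun ℝ (Fin l)).constr ℝ fun i => cv (ψ (sr i))

theorem ex_cv (ψ : (Fin l → ℤ) →+ (Fin l → ℤ)) (a : Fin l → ℤ) : ex ψ (cv a) = cv (ψ a) := by
  have h1 : cv a = _ := map_sum_sr cvH a
  have h2 : cv (ψ a) = _ := map_sum_sr (cvH.comp ψ) a
  rw [h1, h2, map_sum]
  refine Finset.sum_congr rfl fun i _ => ?_
  rw [map_smul]
  congr 1
  show ex ψ (cv (sr i)) = cv (ψ (sr i))
  rw [cv_sr, ex, Module.Basis.constr_basis]

theorem ex_ex {ψ₁ ψ₂ ψ₃ ψ₄ : (Fin l → ℤ) →+ (Fin l → ℤ)} (h : ∀ a, ψ₁ (ψ₂ a) = ψ₃ (ψ₄ a)) (x : Fin l → ℝ) :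
    ex ψ₁ (ex ψ₂ x) = ex ψ₃ (ex ψ₄ x) := by
  have h1 : ex ψ₁ ∘ₗ ex ψ₂ = ex ψ₃ ∘ₗ ex ψ₄ := lin_ext fun i => by
    rw [LinearMap.comp_apply, LinearMap.comp_apply, ex_cv, ex_cv, ex_cv, ex_cv, h]
  exact LinearMap.congr_fun h1 x

theorem ex_eq {ψ₁ ψ₂ ψ₃ : (Fin l → ℤ) →+ (Fin l → ℤ)} (h : ∀ a, ψ₁ (ψ₂ a) = ψ₃ a) (x : Fin l → ℝ) :
    ex ψ₁ (ex ψ₂ x) = ex ψ₃ x := by
  have h1 : ex ψ₁ ∘ₗ ex ψ₂ = ex ψ₃ := lin_ext fun i => by rw [LinearMap.comp_apply, ex_cv, ex_cv, ex_cv, h]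
  exact LinearMap.congr_fun h1 x

theorem ex_id {ψ : (Fin l → ℤ) →+ (Fin l → ℤ)} (h : ∀ a, ψ a = a) (x : Fin l → ℝ) : ex ψ x = x := by
  have h1 : ex ψ = LinearMap.id := lin_ext fun i => by rw [ex_cv, h]; rfl
  exact LinearMap.congr_fun h1 x

end Euc

variable {D : ChevalleyDatum} {l : ℕ} {M : CoxeterMatrix (Fin l)} (hp : IsType D l M)

include hp in
theorem conn : 0 < l ∧ ∀ S : Set (Fin l), S.Nonempty → Sᶜ.Nonempty → ∃ i ∈ S, ∃ j ∈ Sᶜ, cartanOf D l i j ≠ 0 := by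
  have hp' := hp
  simp only [IsType, typeList, List.mem_cons, List.not_mem_nil, or_false, Prod.mk.injEq] at hp'
  rcases hp' with ⟨h, e⟩ | ⟨h, e⟩ | ⟨h, e⟩ | ⟨h, e⟩ | ⟨h, e⟩ | ⟨h, e⟩ | ⟨h, e⟩
  · obtain rfl : l = 2 := congrArg Sigma.fst e
    subst h
    exact ⟨by omega, H795.IrrTypes.conn_of_tree (pr := ![0, 0]) (dep := ![0, 1]) (by decide +kernel) (by decide +kernel)⟩
  · obtain rfl : l = 2 := congrArg Sigma.fst e
    subst h
    exact ⟨by omega, H795.IrrTypes.conn_of_tree (pr := ![0, 0]) (dep := ![0, 1]) (by decide +kernel) (by decide +kernel)⟩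
  · obtain rfl : l = 4 := congrArg Sigma.fst e
    subst h
    exact ⟨by omega, H795.IrrTypes.conn_of_tree (pr := ![1, 1, 1, 1]) (dep := ![1, 0, 1, 1]) (by decide +kernel)
      (by decide +kernel)⟩
  · obtain rfl : l = 4 := congrArg Sigma.fst e
    subst h
    exact ⟨by omega, H795.IrrTypes.conn_of_tree (pr := ![0, 0, 1, 2]) (dep := ![0, 1, 2, 3]) (by decide +kernel)
      (by decide +kernel)⟩
  · obtain rfl : l = 6 := congrArg Sigma.fst e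
    subst h
    exact ⟨by omega, H795.IrrTypes.conn_of_tree (pr := ![0, 3, 0, 2, 3, 4]) (dep := ![0, 3, 1, 2, 3, 4])
      (by decide +kernel) (by decide +kernel)⟩
  · obtain rfl : l = 7 := congrArg Sigma.fst e
    subst h
    exact ⟨by omega, H795.IrrTypes.conn_of_tree (pr := ![0, 3, 0, 2, 3, 4, 5]) (dep := ![0, 3, 1, 2, 3, 4, 5])
      (by decide +kernel) (by decide +kernel)⟩
  · obtain rfl : l = 8 := congrArg Sigma.fst e
    subst h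
    exact ⟨by omega, H795.IrrTypes.conn_of_tree (pr := ![0, 3, 0, 2, 3, 4, 5, 6]) (dep := ![0, 3, 1, 2, 3, 4, 5, 6])
      (by decide +kernel) (by decide +kernel)⟩

/-- the Weyl group is finite -/
@[reducible] noncomputable def ftW : Fintype M.Group := @Fintype.ofFinite _ (finW hp)

/-- the invariant form -/
noncomputable def BB : (Fin l → ℝ) →ₗ[ℝ] (Fin l → ℝ) →ₗ[ℝ] ℝ :=
  LinearMap.mk₂ ℝ (fun x y => ∑ w ∈ @Finset.univ _ (ftW hp), ex (rA hp w) x ⬝ᵥ ex (rA hp w) y)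
    (fun _ _ _ => by simp only [map_add, add_dotProduct, Finset.sum_add_distrib])
    (fun _ _ _ => by simp only [map_smul, smul_dotProduct, Finset.smul_sum])
    (fun _ _ _ => by simp only [map_add, dotProduct_add, Finset.sum_add_distrib])
    (fun _ _ _ => by simp only [map_smul, dotProduct_smul, Finset.smul_sum])

theorem BB_apply (x y : Fin l → ℝ) :
    BB hp x y = ∑ w ∈ @Finset.univ _ (ftW hp), ex (rA hp w) x ⬝ᵥ ex (rA hp w) y := rfl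

theorem rA_one (a : Fin l → ℤ) : rA hp 1 a = a := by rw [rA_apply, map_one, Module.End.one_apply]

theorem pd : PD (BB hp) where
  symm x y := Finset.sum_congr rfl fun _ _ => dotProduct_comm _ _
  pos x hx := by
    let _ := ftW hp
    rw [BB_apply]
    refine Finset.sum_pos' (fun w _ => Finset.sum_nonneg fun i _ => mul_self_nonneg _) ⟨1, Finset.mem_univ _, ?_⟩
    rw [ex_id (rA_one hp)]
    obtain ⟨i, hi⟩ := Function.ne_iff.1 hx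
    exact Finset.sum_pos' (fun i _ => mul_self_nonneg _) ⟨i, Finset.mem_univ _, mul_self_pos.2 hi⟩
  cont := continuous_finsetSum _ fun w _ =>
    (ex (rA hp w)).continuous_of_finiteDimensional.dotProduct (ex (rA hp w)).continuous_of_finiteDimensional

theorem BB_rA (v : M.Group) (x y : Fin l → ℝ) : BB hp (ex (rA hp v) x) (ex (rA hp v) y) = BB hp x y := by
  let _ := ftW hp
  rw [BB_apply, BB_apply]
  refine Fintype.sum_equiv (Equiv.mulRight v) _ _ fun w => ?_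
  rw [ex_eq fun a => (rA_mul hp w v a).symm, ex_eq fun a => (rA_mul hp w v a).symm]
  rfl

theorem ex_inv (v : M.Group) (x : Fin l → ℝ) : ex (rA hp v⁻¹) (ex (rA hp v) x) = x := by
  rw [ex_eq (ψ₃ := AddMonoidHom.id _) (rA_inv hp v)]
  exact ex_id (fun _ => rfl) x

theorem BB_inv (v : M.Group) (x y : Fin l → ℝ) : BB hp x (ex (rA hp v⁻¹) y) = BB hp (ex (rA hp v) x) y := by
  rw [← BB_rA hp v⁻¹ (ex (rA hp v) x), ex_inv]

/-- the cocharacter of a point -/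
noncomputable def mu (β : Fin l → ℝ) : (Fin l → ℤ) →+ ℝ := (BB hp β).toAddMonoidHom.comp cvH

theorem mu_apply (β : Fin l → ℝ) (a : Fin l → ℤ) : mu hp β a = BB hp β (cv a) := rfl

theorem eq_zero_of_sr {β : Fin l → ℝ} (h : ∀ i, BB hp β (cv (sr i)) = 0) : β = 0 := by
  have h1 : BB hp β = 0 := lin_ext h
  by_contra hc
  have h2 := (pd hp).pos β hc
  rw [h1] at h2
  exact lt_irrefl _ h2

theorem exists_pt (c : Fin l → ℝ) : ∃ β, ∀ i, BB hp β (cv (sr i)) = c i := by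
  let f : (Fin l → ℝ) →ₗ[ℝ] (Fin l → ℝ) := LinearMap.pi fun i => (BB hp).flip (cv (sr i))
  have h1 : Function.Injective f := (injective_iff_map_eq_zero f).2 fun β h => eq_zero_of_sr hp fun i => congrFun h i
  obtain ⟨β, h⟩ := LinearMap.injective_iff_surjective.1 h1 c
  exact ⟨β, fun i => congrFun h i⟩

theorem exists_mu (μ : (Fin l → ℤ) →+ ℝ) : ∃ β, mu hp β = μ := by
  obtain ⟨β, h⟩ := exists_pt hp fun i => μ (sr i)
  refine ⟨β, AddMonoidHom.ext fun a => ?_⟩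
  rw [map_eq_sum, map_eq_sum μ]
  exact Finset.sum_congr rfl fun i _ => by rw [mu_apply, h]

variable (D) in
/-- the simple coroots -/
noncomputable def pr (i : Fin l) : (Fin l → ℝ) →ₗ[ℝ] ℝ := (Pi.basisFun ℝ (Fin l)).constr ℝ fun j => (cartanOf D l i j : ℝ)

theorem pr_sr (i j : Fin l) : pr D i (cv (sr j)) = cartanOf D l i j := by rw [cv_sr, pr, Module.Basis.constr_basis]

theorem ex_simple (i : Fin l) (x : Fin l → ℝ) :
    ex (rA hp (M.toCoxeterSystem.simple i)) x = x - pr D i x • cv (sr i) := by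
  have h1 : ex (rA hp (M.toCoxeterSystem.simple i)) = LinearMap.id - (pr D i).smulRight (cv (sr i)) := lin_ext fun j => by
    rw [ex_cv, rA_apply, rep_simple_eq, cv_sub, cv_zsmul, DL.Ex.pairing_sr', LinearMap.sub_apply,
      LinearMap.smulRight_apply, pr_sr]
    rfl
  exact LinearMap.congr_fun h1 x

theorem two_B {B : (Fin l → ℝ) →ₗ[ℝ] (Fin l → ℝ) →ₗ[ℝ] ℝ} (h : ∀ w x y, B (ex (rA hp w) x) (ex (rA hp w) y) = B x y)
    (i : Fin l) (x : Fin l → ℝ) : 2 * B x (cv (sr i)) = pr D i x * B (cv (sr i)) (cv (sr i)) := by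
  have h1 := h (M.toCoxeterSystem.simple i) x (cv (sr i))
  have h2 : ex (rA hp (M.toCoxeterSystem.simple i)) (cv (sr i)) = -cv (sr i) := by
    rw [ex_cv, rA_apply, rep_simple_sr]
    exact map_neg cvH _
  rw [h2, ex_simple] at h1
  simp only [map_neg, map_sub, map_smul, LinearMap.sub_apply, LinearMap.smul_apply, smul_eq_mul] at h1
  linarith

theorem B_sr_pos (i : Fin l) : 0 < BB hp (cv (sr i)) (cv (sr i)) := (pd hp).pos _ (cv_ne (sr_ne_zero i))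

/-- invariant symmetric forms are proportional -/
theorem exists_prop {B : (Fin l → ℝ) →ₗ[ℝ] (Fin l → ℝ) →ₗ[ℝ] ℝ} (hs : ∀ x y, B x y = B y x)
    (h : ∀ w x y, B (ex (rA hp w) x) (ex (rA hp w) y) = B x y) : ∃ c, ∀ x y, B x y = c * BB hp x y := by
  obtain ⟨hl, hc⟩ := conn hp
  let i₀ : Fin l := ⟨0, hl⟩
  let c := B (cv (sr i₀)) (cv (sr i₀)) / BB hp (cv (sr i₀)) (cv (sr i₀))
  let S : Set (Fin l) := {i | B (cv (sr i)) (cv (sr i)) = c * BB hp (cv (sr i)) (cv (sr i))}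
  have h0 : i₀ ∈ S := (div_mul_cancel₀ _ (B_sr_pos hp i₀).ne').symm
  have h1 : ∀ i, i ∈ S := by
    by_contra hn
    push Not at hn
    obtain ⟨i, hi, j, hj, hij⟩ := hc S ⟨i₀, h0⟩ hn
    have a1 := two_B hp h i (cv (sr j))
    have a2 := two_B hp h j (cv (sr i))
    have a3 := two_B hp (BB_rA hp) i (cv (sr j))
    have a4 := two_B hp (BB_rA hp) j (cv (sr i))
    rw [pr_sr] at a1 a2 a3 a4
    rw [hs, a2] at a1
    rw [(pd hp).symm, a4] at a3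
    have a5 : (cartanOf D l j i : ℝ) ≠ 0 := by
      intro e
      rw [e, zero_mul] at a3
      exact mul_ne_zero (Int.cast_ne_zero.2 hij) (B_sr_pos hp i).ne' a3.symm
    refine hj (mul_left_cancel₀ a5 ?_)
    rw [a1, show B (cv (sr i)) (cv (sr i)) = _ from hi, mul_left_comm, ← a3, mul_left_comm]
  refine ⟨c, fun x y => ?_⟩
  have h2 : B x = c • BB hp x := lin_ext fun i => by
    have a1 := two_B hp h i x
    have a2 := two_B hp (BB_rA hp) i x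
    rw [show B (cv (sr i)) (cv (sr i)) = _ from h1 i] at a1
    rw [LinearMap.smul_apply, smul_eq_mul]
    linear_combination (1 / 2 : ℝ) * a1 - (c / 2) * a2
  rw [h2]
  rfl

theorem exists_dom (β : Fin l → ℝ) : ∃ w, ∀ i, 0 ≤ BB hp (ex (rA hp w) β) (cv (sr i)) := by
  have := finW hp
  obtain ⟨ρ, hρ⟩ := exists_pt hp fun _ => 1
  obtain ⟨w, hw⟩ := Finite.exists_max fun w : M.Group => BB hp ρ (ex (rA hp w) β)
  refine ⟨w, fun i => ?_⟩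
  have h1 := hw (M.toCoxeterSystem.simple i * w)
  rw [← ex_eq fun a => (rA_mul hp (M.toCoxeterSystem.simple i) w a).symm, ex_simple, map_sub, map_smul, hρ, smul_eq_mul,
    mul_one] at h1
  have h2 := two_B hp (BB_rA hp) i (ex (rA hp w) β)
  have h3 := mul_nonneg (show 0 ≤ pr D i (ex (rA hp w) β) by linarith) (B_sr_pos hp i).le
  linarith

/-- `ψ` is conformal with the factor `s` -/
structure Cf (ψ : (Fin l → ℤ) →+ (Fin l → ℤ)) (s : ℝ) : Prop where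
  pos : 0 < s
  eq : ∀ x y, BB hp (ex ψ x) (ex ψ y) = s ^ 2 * BB hp x y

variable {hp}

theorem Cf.mul {ψ ψ' : (Fin l → ℤ) →+ (Fin l → ℤ)} {s s' : ℝ} (h : Cf hp ψ s) (h' : Cf hp ψ' s') :
    Cf hp (ψ'.comp ψ) (s' * s) :=
  ⟨mul_pos h'.pos h.pos, fun x y => by
    rw [← ex_eq (ψ₁ := ψ') (ψ₂ := ψ) (ψ₃ := ψ'.comp ψ) fun _ => rfl,
      ← ex_eq (ψ₁ := ψ') (ψ₂ := ψ) (ψ₃ := ψ'.comp ψ) fun _ => rfl, h'.eq, h.eq]
    ring⟩

theorem Cf.rp (w : M.Group) : Cf hp (rA hp w) 1 := ⟨one_pos, fun x y => by rw [BB_rA, one_pow, one_mul]⟩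

theorem Cf.iso {ψ : (Fin l → ℤ) →+ (Fin l → ℤ)} {s : ℝ} (h : Cf hp ψ s) (x y : Fin l → ℝ) :
    BB hp (s⁻¹ • ex ψ x) (s⁻¹ • ex ψ y) = BB hp x y := by
  have := h.pos.ne'
  simp only [map_smul, LinearMap.smul_apply, smul_eq_mul, h.eq]
  field_simp

theorem Cf.surj {ψ : (Fin l → ℤ) →+ (Fin l → ℤ)} {s : ℝ} (h : Cf hp ψ s) (β : Fin l → ℝ) : ∃ β', s⁻¹ • ex ψ β' = β := by
  have h1 : Function.Injective (s⁻¹ • ex ψ : (Fin l → ℝ) →ₗ[ℝ] (Fin l → ℝ)) := (injective_iff_map_eq_zero _).2 fun x hx => by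
    by_contra hc
    have h2 := (pd hp).pos x hc
    rw [← h.iso, show s⁻¹ • ex ψ x = 0 from hx, map_zero] at h2
    exact lt_irrefl _ h2
  exact LinearMap.injective_iff_surjective.1 h1 β

variable {p : ℕ} [Fact p.Prime]

theorem Frm.norm {φ : MulAut (YY D p)} {y : YY D p} {ψ : (Fin l → ℤ) →+ (Fin l → ℤ)} (h : Frm hp p φ y ψ) (w : M.Group) :
    ∃ v, ∀ a, ψ (rA hp w a) = rA hp v (ψ a) := by
  obtain ⟨n, hn⟩ := exists_RP hp p w
  have e : ∀ t, y * φ (φ⁻¹ (y⁻¹ * n * y) * t * (φ⁻¹ (y⁻¹ * n * y))⁻¹) * y⁻¹ = n * (y * φ t * y⁻¹) * n⁻¹ := fun t => by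
    rw [map_mul, map_mul, map_inv, MulAut.apply_inv_self]
    group
  obtain ⟨v, hv⟩ := rp_of_norm (hp := hp) (d := φ⁻¹ (y⁻¹ * n * y)) fun t => by rw [← h.tor, e, hn.conj_iff, h.tor]
  refine ⟨v, fun a => ?_⟩
  rw [← rA_inv' hp v (ψ (rA hp w a))]
  congr 1
  refine sep hp p fun t ht => ?_
  rw [← h.chr t ht, ← hn.cX ((h.tor t).2 ht) a, ← e, h.chr _ (hv.conj_mem ht)]
  exact ((Frm.rp hv).chr t ht _).symm

theorem Frm.cf {φ : MulAut (YY D p)} {y : YY D p} {ψ : (Fin l → ℤ) →+ (Fin l → ℤ)} (h : Frm hp p φ y ψ) :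
    ∃ s, Cf hp ψ s := by
  obtain ⟨c, hc⟩ := exists_prop hp (B := (BB hp).compl₁₂ (ex ψ) (ex ψ)) (fun x y => (pd hp).symm _ _) fun w x y => by
    obtain ⟨v, hv⟩ := h.norm w
    rw [LinearMap.compl₁₂_apply, LinearMap.compl₁₂_apply, ex_ex hv, ex_ex hv, BB_rA]
  obtain ⟨g, hg, h1⟩ := h.root
  have ha : RT hp (sr ⟨0, (conn hp).1⟩) := isRoot_sr _ _ _
  obtain ⟨k, hk, e⟩ := (h1 _ ha).1
  have h2 := hc (cv (g (sr ⟨0, (conn hp).1⟩))) (cv (g (sr ⟨0, (conn hp).1⟩)))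
  rw [LinearMap.compl₁₂_apply, ex_cv, e] at h2
  have h3 : 0 < c := by
    have h4 := (pd hp).pos _ (cv_ne (smul_ne_zero hk.ne' ha.ne_zero))
    rw [h2] at h4
    exact (pos_iff_pos_of_mul_pos h4).2 ((pd hp).pos _ (cv_ne (IsRoot.ne_zero (hg.mapsTo ha))))
  exact ⟨√c, Real.sqrt_pos.2 h3, fun x y => by rw [Real.sq_sqrt h3.le]; exact hc x y⟩

variable (hp p) in
/-- state functions -/
structure Sta (S₀ : YY D p → Set (Fin l → ℤ)) : Prop where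
  fin : ∃ Ω : Set (Fin l → ℤ), Ω.Finite ∧ ∀ g, S₀ g ⊆ Ω
  ne : ∀ g, (S₀ g).Nonempty
  tri : ∀ μ : (Fin l → ℤ) →+ ℝ, ∀ m ∈ PL hp p μ, ∀ g, ∀ χ ∈ S₀ (g * m), ∃ χ' ∈ S₀ g, μ χ' ≤ μ χ

variable (hp) in
/-- the invariant state function -/
def St (Γ : Subgroup (MulAut (YY D p))) (S₀ : YY D p → Set (Fin l → ℤ)) (g : YY D p) : Set (Fin l → ℝ) :=
  {x | ∃ φ ∈ Γ, ∃ y ψ s, Frm hp p φ y ψ ∧ Cf hp ψ s ∧ ∃ χ ∈ S₀ (φ g * y⁻¹), x = s⁻¹ • cv (ψ χ)}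

variable {Γ : Subgroup (MulAut (YY D p))} {S₀ : YY D p → Set (Fin l → ℤ)}

theorem Sta.exists_fin (h : Sta hp p S₀) : ∃ Ω : Set (Fin l → ℝ), Ω.Finite ∧ ∀ g, St hp Γ S₀ g ⊆ Ω := by
  obtain ⟨Ω, h1, h2⟩ := h.fin
  let F : Fin l → Set (Fin l → ℝ) := fun i =>
    (fun a => √(BB hp (cv (sr i)) (cv (sr i)) / BB hp (cv a) (cv a)) • cv a) '' {a | RT hp a}
  have hF : (Set.univ.pi F).Finite := Set.Finite.pi fun i => (finite_RT hp).image _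
  refine ⟨(fun z : (Fin l → ℤ) × (Fin l → Fin l → ℝ) => ∑ i, (z.1 i : ℝ) • z.2 i) '' Ω ×ˢ Set.univ.pi F,
    (h1.prod hF).image _, ?_⟩
  rintro g _ ⟨φ, -, y, ψ, s, a1, a2, χ, a3, rfl⟩
  refine ⟨(χ, fun i => s⁻¹ • cv (ψ (sr i))), ⟨h2 _ a3, fun i _ => ?_⟩, ?_⟩
  · obtain ⟨g, hg, a4⟩ := a1.root
    obtain ⟨a, ha, e⟩ := hg.surjOn (show sr i ∈ {a | RT hp a} from isRoot_sr _ _ i)
    obtain ⟨c, hc, e'⟩ := (a4 a ha).1
    rw [e] at e'
    refine ⟨a, ha, ?_⟩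
    have a5 := a2.iso (cv (sr i)) (cv (sr i))
    have a6 := (pd hp).pos _ (cv_ne (IsRoot.ne_zero ha))
    have a7 : (0 : ℝ) < s⁻¹ * c := mul_pos (inv_pos.2 a2.pos) (Int.cast_pos.2 hc)
    show √(BB hp (cv (sr i)) (cv (sr i)) / BB hp (cv a) (cv a)) • cv a = s⁻¹ • cv (ψ (sr i))
    rw [ex_cv] at a5
    rw [e', cv_zsmul, smul_smul] at a5 ⊢
    simp only [map_smul, LinearMap.smul_apply, smul_eq_mul] at a5
    rw [← a5, ← mul_assoc, mul_div_cancel_right₀ _ a6.ne', Real.sqrt_mul_self a7.le]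
  · have a4 : cv (ψ χ) = _ := map_sum_sr (cvH.comp ψ) χ
    rw [a4, Finset.smul_sum]
    exact Finset.sum_congr rfl fun i _ => smul_comm _ _ _

theorem Sta.finite (h : Sta hp p S₀) (g : YY D p) : (St hp Γ S₀ g).Finite := by
  obtain ⟨Ω, h1, h2⟩ := h.exists_fin (Γ := Γ)
  exact h1.subset (h2 g)

theorem Sta.nonempty (h : Sta hp p S₀) (g : YY D p) : (St hp Γ S₀ g).Nonempty := by
  obtain ⟨χ, hχ⟩ := h.ne ((1 : MulAut (YY D p)) g * (1 : YY D p)⁻¹)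
  exact ⟨_, 1, one_mem _, 1, _, 1, Frm.rp (RP.of_mem (one_mem _)), Cf.rp _, χ, hχ, rfl⟩

theorem Sta.move (h : Sta hp p S₀) {g : YY D p} {β β' : Fin l → ℝ} (ho : Opt (BB hp) (St hp Γ S₀) g β)
    {φ : MulAut (YY D p)} (hφ : φ ∈ Γ) {y : YY D p} {ψ : (Fin l → ℤ) →+ (Fin l → ℤ)} {s : ℝ} (hf : Frm hp p φ y ψ)
    (hs : Cf hp ψ s) (e : s⁻¹ • ex ψ β' = β) : Opt (BB hp) (St hp Γ S₀) (φ g * y⁻¹) β' := by
  have he : BB hp β' β' = BB hp β β := by rw [← e, hs.iso]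
  refine ho.move' (pd hp) (h.finite _) (h.nonempty _) he ?_
  rintro _ ⟨φ', hφ', y', ψ', s', a1, a2, χ, a3, rfl⟩
  rw [he, ← hs.iso β', e]
  refine ho.1.2 _ ⟨φ' * φ, mul_mem hφ' hφ, _, _, _, a1.mul hf, a2.mul hs, χ, ?_, ?_⟩
  · rw [map_mul, map_inv, mul_assoc, ← _root_.mul_inv_rev] at a3
    exact a3
  · rw [map_smul, ex_cv, smul_smul, mul_inv]
    rfl

theorem Sta.move_rp (h : Sta hp p S₀) {g : YY D p} {β : Fin l → ℝ} (ho : Opt (BB hp) (St hp Γ S₀) g β)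
    {w : M.Group} {n : YY D p} (hn : RP hp p w n) : Opt (BB hp) (St hp Γ S₀) (g * n⁻¹) (ex (rA hp w) β) :=
  h.move ho (one_mem _) (Frm.rp hn) (Cf.rp _) (by rw [inv_one, one_smul, ex_inv])

theorem Sta.move_PL (h : Sta hp p S₀) {g : YY D p} {β : Fin l → ℝ} (ho : Opt (BB hp) (St hp Γ S₀) g β)
    {m : YY D p} (hm : m ∈ PL hp p (mu hp β)) : Opt (BB hp) (St hp Γ S₀) (g * m) β := by
  refine ho.move (pd hp) (h.finite _) (h.nonempty _) ?_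
  rintro _ ⟨φ, hφ, y, ψ, s, a1, a2, χ, a3, rfl⟩
  have e : φ (g * m) * y⁻¹ = φ g * y⁻¹ * (y * φ m * y⁻¹) := by
    rw [map_mul]
    group
  rw [e] at a3
  obtain ⟨χ', a4, a5⟩ := h.tri _ _ (a1.map_PL hm) _ χ a3
  refine (ho.1.2 _ ⟨φ, hφ, y, ψ, s, a1, a2, χ', a4, rfl⟩).trans ?_
  rw [map_smul, map_smul, smul_eq_mul, smul_eq_mul]
  exact mul_le_mul_of_nonneg_left a5 (inv_pos.2 a2.pos).le

/-- **Kempf's canonical parabolic subgroup** -/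
theorem kempf (h : Sta hp p S₀) (Γ : Subgroup (MulAut (YY D p))) {g₀ : YY D p} {μ₀ : (Fin l → ℤ) →+ ℝ}
    (H : ∀ φ ∈ Γ, ∀ y ψ, Frm hp p φ y ψ → ∀ χ ∈ S₀ (φ g₀ * y⁻¹), 0 < μ₀ (ψ χ)) :
    ∃ (g : YY D p) (μ : (Fin l → ℤ) →+ ℝ), μ ≠ 0 ∧ (∀ i, 0 ≤ μ (sr i)) ∧ ∀ φ ∈ Γ, (∃ y ψ, Frm hp p φ y ψ) →
      ∃ (y : YY D p) (ψ : (Fin l → ℤ) →+ (Fin l → ℤ)) (s : ℝ), Frm hp p φ y ψ ∧ 0 < s ∧ (∀ a, μ (ψ a) = s * μ a) ∧
        g⁻¹ * φ g * y⁻¹ ∈ PL hp p μ := by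
  obtain ⟨Ω, hΩ, hsub⟩ := h.exists_fin (Γ := Γ)
  obtain ⟨g', β', ho', -⟩ := E7P.Kf.exists_opt (pd hp) hΩ hsub h.nonempty (ι := Empty) Empty.elim 0 (fun i => i.elim)
    Empty.elim Empty.elim (fun i => i.elim) (fun i => i.elim) (fun i => i.elim)
  obtain ⟨w', hd⟩ := exists_dom hp β'
  obtain ⟨n', hn'⟩ := exists_RP hp p w'
  have ho := h.move_rp ho' hn'
  generalize g' * n'⁻¹ = g at ho
  generalize ex (rA hp w') β' = β at ho hd
  obtain ⟨β₀, rfl⟩ := exists_mu hp μ₀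
  have h0 : β ≠ 0 := ho.pos (pd hp) (g0 := g₀) (l := β₀) (h.finite _) (h.nonempty _) (by
    rintro _ ⟨φ, hφ, y, ψ, s, a1, a2, χ, a3, rfl⟩
    rw [map_smul, smul_eq_mul]
    exact mul_pos (inv_pos.2 a2.pos) (H φ hφ y ψ a1 χ a3))
  refine ⟨g, mu hp β, fun e => h0 (eq_zero_of_sr hp fun i => DFunLike.congr_fun e (sr i)), hd, ?_⟩
  rintro φ hφ ⟨y₁, ψ₁, f₁⟩
  obtain ⟨s, hs⟩ := f₁.cf
  obtain ⟨β₁, e₁⟩ := hs.surj β
  obtain ⟨w₁, hd₁⟩ := exists_dom hp β₁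
  obtain ⟨n₁, hn₁⟩ := exists_RP hp p w₁
  have o₂ := h.move_rp (h.move ho hφ f₁ hs e₁) hn₁
  obtain ⟨u, hu, w, n, hn, v, hv, e⟩ := bruhat hp (g⁻¹ * (φ g * y₁⁻¹ * n₁⁻¹))
  have hu' : u ∈ PL hp p (mu hp β) := U_le_PL hd hu
  have hv' : v ∈ PL hp p (mu hp (ex (rA hp w₁) β₁)) := U_le_PL hd₁ (NW_le_U (hp := hp) w hv)
  have o₃ := h.move_rp (h.move_PL o₂ (inv_mem hv')) hn
  have e₂ : φ g * y₁⁻¹ * n₁⁻¹ * v⁻¹ * n⁻¹ = g * u := by
    rw [show φ g * y₁⁻¹ * n₁⁻¹ = g * (u * n * v) by rw [← e]; group]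
    group
  rw [e₂] at o₃
  have e₃ : ex (rA hp w) (ex (rA hp w₁) β₁) = β := (pd hp).cl_unique o₃.1 (h.move_PL ho hu').1
  have e₄ : (mu hp (ex (rA hp w₁) β₁)).comp (rA hp w⁻¹) = mu hp β := AddMonoidHom.ext fun a => by
    rw [AddMonoidHom.comp_apply, mu_apply, ← ex_cv, BB_inv, e₃, mu_apply]
  refine ⟨_, _, s, (f₁.left hn₁).left hn, hs.pos, fun a => ?_, ?_⟩
  · have := hs.pos.ne'
    rw [AddMonoidHom.comp_apply, AddMonoidHom.comp_apply, mu_apply, ← ex_cv, ← ex_cv, ← ex_cv, mu_apply]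
    conv_lhs => rw [← e₁]
    rw [map_smul, LinearMap.smul_apply, hs.eq, BB_inv, BB_inv, e₃, smul_eq_mul]
    field_simp
  · have h1 := (Frm.rp hn).map_PL hv'
    rw [e₄] at h1
    have e₅ : g⁻¹ * φ g * (n * (n₁ * y₁))⁻¹ = u * (n * v * n⁻¹) := by
      rw [show u * (n * v * n⁻¹) = u * n * v * n⁻¹ by group, ← e]
      group
    rw [e₅]
    exact mul_mem hu' h1

end Cfsg.Agent.N2.Ex.K
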