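import Cfsg.Agent.N2.Ex.K.Poly

/-!
# S3519, exceptional groups, box (K): irreducibility (helper70)

* `tup R` : the representation on tuples of matrices; `exists_tor` : a torus element centralising a Levi subgroup;
* `boxIrr_of : BoxEnd → BoxIrr`.
-/

set_option autoImplicit false
set_option linter.unusedSectionVars false

namespace Cfsg.Agent.N2.Ex.K

open CoxeterSystem Cfsg Cfsg.Lie Cfsg.Lie.ChevalleyDatum Matrix
open Cfsg.Agent.ChevalleyStructure Cfsg.Agent.ChevalleyStructure.Elts Cfsg.Agent.ChevalleyStructure.CoxeterGeom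
  Cfsg.Agent.ChevalleyStructure.CoxeterGeomTypes
open Cfsg.Agent.Tits.Roots Cfsg.Agent.Tits.Core Cfsg.Agent.Nodes Cfsg.Agent.Nodes.Reps Cfsg.Agent.Nodes.BNOf
  Cfsg.Agent.Nodes.RGDChev Cfsg.Agent.Nodes.Bruhat Cfsg.Agent.Nodes.NormalForm
open Cfsg.Agent.KFacts.RgdField Cfsg.Agent.KFacts.RgdChevCoord
open Cfsg.Agent.BpExc Cfsg.Agent.BpExc.TorCent Cfsg.Agent.BpExc.TorChev Cfsg.Agent.BpExc.Tow
  Cfsg.Agent.BpExc.TowChev Cfsg.Agent.BpExc.Fr Cfsg.Agent.BpExc.LangFr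
open Cfsg.Agent.H469.Exc Cfsg.Agent.H129.TorusChar Cfsg.Agent.DS.Ex Cfsg.Agent.DS.Nt Cfsg.Agent.DS.Ex.Tor
  Cfsg.Agent.SB.Exc

open scoped Kronecker

variable {D : ChevalleyDatum} {l : ℕ} {M : CoxeterMatrix (Fin l)} (hp : IsType D l M) {p : ℕ} [Fact p.Prime]

include hp in
theorem det_mx (y : YY D p) : (mx y).det = 1 := by
  have h1 : ∀ g ∈ LangThm.MM hp.inList Set.univ (KK p), (g : Matrix D.Idx D.Idx (KK p)).det = 1 := by
    intro g hg
    induction hg using Subgroup.closure_induction with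
    | mem g hg =>
      obtain ⟨r, -, t, rfl⟩ := hg
      have h2 : ∀ n : ℕ, xG hp.inList r t ^ n = xG hp.inList r (n * t) := fun n => by
        induction n with
        | zero => rw [pow_zero, Nat.cast_zero, zero_mul, xG_zero]
        | succ n ih => rw [pow_succ, ih, xG_add, Nat.cast_succ, add_mul, one_mul]
      have h3 := congrArg (fun g : GL D.Idx (KK p) => (g : Matrix D.Idx D.Idx (KK p)).det) (h2 p)
      simp only [CharP.cast_eq_zero, zero_mul, xG_zero, Units.val_pow_eq_pow_val, det_pow, Units.val_one, det_one] at h3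
      exact frobenius_inj (KK p) p (by rw [frobenius_def, h3, map_one])
    | one => exact det_one
    | mul g h _ _ hg hh => rw [Units.val_mul, det_mul, hg, hh, mul_one]
    | inv g _ hg =>
      have h2 := congrArg det g.inv_mul
      rwa [det_mul, hg, mul_one, det_one] at h2
  exact h1 y ((TorAll.group_eq_MM hp).le y.2)

include hp in
theorem mx_inv (y : YY D p) : mx y⁻¹ = (mx y).adjugate := by
  rw [← one_mul (mx y).adjugate, ← mx_inv_mul y, mul_assoc, mul_adjugate, det_mx hp, one_smul, mul_one]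

variable (p) in
/-- conjugation of tuples of matrices -/
noncomputable def tup (R : Type) [Fintype R] [DecidableEq R] : PRep hp p (R × D.Idx × D.Idx) where
  ρ :=
    { toFun := fun y => (1 : Matrix R R (KK p)) ⊗ₖ (mx y ⊗ₖ (mx y⁻¹)ᵀ)
      map_one' := by rw [inv_one, mx_one, transpose_one, one_kronecker_one, one_kronecker_one]
      map_mul' := fun a b => by
        rw [← mul_kronecker_mul, ← mul_kronecker_mul, mul_one, ← transpose_mul, ← mx_mul, ← mx_mul, _root_.mul_inv_rev] }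
  w s := wL D l s.2.1 - wL D l s.2.2
  poly := ⟨fun s s' => MvPolynomial.C ((1 : Matrix R R (KK p)) s.1 s'.1) * (MvPolynomial.X (s.2.1, s'.2.1) *
      (Matrix.of fun i j => MvPolynomial.X (i, j)).adjugate s'.2.2 s.2.2), fun y s s' => by
    have h1 := (MvPolynomial.aeval (LangThm.co (y : GL D.Idx (KK p))) :
      MvPolynomial (D.Idx × D.Idx) (KK p) →ₐ[KK p] KK p).map_adjugate (Matrix.of fun i j => MvPolynomial.X (i, j))
    have h2 : (MvPolynomial.aeval (LangThm.co (y : GL D.Idx (KK p))) :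
        MvPolynomial (D.Idx × D.Idx) (KK p) →ₐ[KK p] KK p).mapMatrix (Matrix.of fun i j => MvPolynomial.X (i, j)) = mx y :=
      Matrix.ext fun i j => MvPolynomial.aeval_X _ _
    rw [h2, ← mx_inv hp] at h1
    rw [map_mul, map_mul, MvPolynomial.aeval_C, MvPolynomial.aeval_X]
    show (1 : Matrix R R (KK p)) s.1 s'.1 * (mx y s.2.1 s'.2.1 * mx y⁻¹ s'.2.2 s.2.2) = _
    rw [← h1]
    rfl⟩
  tor t ht := by
    show (1 : Matrix R R (KK p)) ⊗ₖ (mx t ⊗ₖ (mx t⁻¹)ᵀ) = _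
    rw [mx_T hp ht, mx_T hp (inv_mem ht), diagonal_transpose, diagonal_kronecker_diagonal, ← diagonal_one,
      diagonal_kronecker_diagonal]
    congr 1
    funext s
    have h1 := cX_mul hp ht (inv_mem ht) (wL D l s.2.2)
    rw [mul_inv_cancel, cX_one] at h1
    rw [one_mul, (isMC_cX hp ht).sub, div_eq_mul_inv, eq_inv_of_mul_eq_one_right h1.symm]
  up a ha x hx s s' h := by
    have h1 : mx x s.2.1 s'.2.1 * mx x⁻¹ s'.2.2 s.2.2 ≠ 0 := right_ne_zero_of_mul h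
    obtain ⟨m, e⟩ := xc_entry hp ha hx (left_ne_zero_of_mul h1)
    obtain ⟨m', e'⟩ := xc_entry hp ha (inv_mem hx) (right_ne_zero_of_mul h1)
    refine ⟨m + m', ?_⟩
    rw [e, e', Nat.cast_add, add_smul]
    abel

theorem tup_vec {R : Type} [Fintype R] [DecidableEq R] (f : R → YY D p) (y : YY D p) (s : R × D.Idx × D.Idx) :
    ((tup hp p R).ρ y *ᵥ fun s => mx (f s.1) s.2.1 s.2.2) s = mx (y * f s.1 * y⁻¹) s.2.1 s.2.2 := by
  obtain ⟨r, i, j⟩ := s
  show ∑ s' : R × D.Idx × D.Idx, (1 : Matrix R R (KK p)) r s'.1 * (mx y i s'.2.1 * mx y⁻¹ s'.2.2 j) *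
    mx (f s'.1) s'.2.1 s'.2.2 = (mx y * mx (f r) * mx y⁻¹) i j
  rw [Fintype.sum_prod_type, Finset.sum_eq_single r (fun r' _ e => Finset.sum_eq_zero fun _ _ => by
    rw [one_apply_ne e.symm, zero_mul, zero_mul]) (fun e => (e (Finset.mem_univ _)).elim), Fintype.sum_prod_type_right,
    mul_apply]
  refine Finset.sum_congr rfl fun j' _ => ?_
  rw [mul_apply, Finset.sum_mul]
  refine Finset.sum_congr rfl fun i' _ => ?_
  rw [one_apply_eq]
  ring

theorem exists_int {μ : (Fin l → ℤ) →+ ℝ} (hμ : μ ≠ 0) :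
    ∃ f : (Fin l → ℤ) →+ ℤ, (∃ a, f a = 1) ∧ ∀ a, μ a = 0 → f a = 0 := by
  let N := LinearMap.range μ.toIntLinearMap
  obtain ⟨i, hi⟩ := exists_sr_ne hμ
  have h1 : Nontrivial N := ⟨⟨⟨μ (sr i), sr i, rfl⟩, 0, fun e => hi (congrArg Subtype.val e)⟩⟩
  let b := Module.Free.chooseBasis ℤ N
  obtain ⟨j⟩ := b.index_nonempty
  refine ⟨(b.coord j ∘ₗ μ.toIntLinearMap.rangeRestrict).toAddMonoidHom, ?_, fun a ha => ?_⟩
  · obtain ⟨a, ha⟩ := μ.toIntLinearMap.surjective_rangeRestrict (b j)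
    refine ⟨a, ?_⟩
    show b.coord j (μ.toIntLinearMap.rangeRestrict a) = 1
    rw [ha, Module.Basis.coord_apply, b.repr_self, Finsupp.single_eq_same]
  · show b.coord j (μ.toIntLinearMap.rangeRestrict a) = 0
    rw [show μ.toIntLinearMap.rangeRestrict a = 0 from Subtype.ext ha, map_zero]

/-- a torus element of order `r` in the centre of a Levi subgroup -/
theorem exists_tor {μ : (Fin l → ℤ) →+ ℝ} (hμ : μ ≠ 0) {r : ℕ} (hr : r.Prime) (hrp : r ≠ p) :
    ∃ t ∈ TT D (KK p), t ≠ 1 ∧ t ^ r = 1 ∧ ∀ a, μ a = 0 → cX hp t a = 1 := by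
  obtain ⟨f, ⟨a, ha⟩, hf⟩ := exists_int hμ
  have : NeZero (r : KK p) := ⟨fun e => hrp ((Nat.prime_dvd_prime_iff_eq Fact.out hr).1
    ((CharP.cast_eq_zero_iff (KK p) p r).1 e)).symm⟩
  obtain ⟨ζ, hζ⟩ := HasEnoughRootsOfUnity.exists_primitiveRoot (KK p) r
  have h0 : ζ ≠ 0 := hζ.ne_zero hr.ne_zero
  have h1 : ∀ x, cX hp (DL.Ex.tau hp fun i => Units.mk0 ζ h0 ^ f (sr i)) x = ζ ^ f x := fun x => by
    refine (isMC_cX hp (DL.Ex.tau_mem hp _)).ext (ψ := fun x => ζ ^ f x)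
      ⟨by rw [map_zero, zpow_zero], fun x y => by rw [map_add, zpow_add₀ h0]⟩ (fun i => ?_) x
    rw [DL.Ex.cX_tau, DL.chr_apply, Finset.prod_eq_single i (fun j _ e => by rw [sr_ne e, zpow_zero])
      (fun e => (e (Finset.mem_univ _)).elim), sr_self, zpow_one, Units.val_zpow_eq_zpow_val, Units.val_mk0]
  refine ⟨_, DL.Ex.tau_mem hp _, fun e => ?_, ?_, fun x hx => by rw [h1, hf x hx, zpow_zero]⟩
  · have h2 := h1 a
    rw [e, cX_one, ha, zpow_one] at h2
    exact hζ.ne_one hr.one_lt h2.symm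
  · refine cX_inj hp (pow_mem (DL.Ex.tau_mem hp _) r) (one_mem _) fun i => ?_
    rw [cX_pow hp (DL.Ex.tau_mem hp _), h1, cX_one, ← zpow_natCast, ← _root_.zpow_mul, mul_comm, _root_.zpow_mul, zpow_natCast,
      hζ.pow_eq_one, _root_.one_zpow]

/-- **[IRR]** -/
theorem boxIrr_of (hE : BoxEnd) : BoxIrr := by
  intro D l M hp p _ σ Γ R K hR hI ⟨r, hr, hrp, hc⟩ hP g μ hg
  by_contra hμ
  have := Fintype.ofFinite R
  have := Classical.decEq R
  obtain ⟨S₀, h1, h2⟩ := (tup hp p R).exists_sta fun s => mx (s.1 : YY D p) s.2.1 s.2.2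
  obtain ⟨g₁, μ₁, h3, h4, h5⟩ := kempf h1 Γ (g₀ := g) (μ₀ := μ) (by
    intro φ hφ y ψ hf χ hχ
    have a1 : ∀ z ∈ R, (φ g * y⁻¹)⁻¹ * z * (φ g * y⁻¹)⁻¹⁻¹ ∈ PL hp p (μ.comp ψ) := fun z hz => by
      have a2 := hf.map_PL (hg _ (hI _ (inv_mem hφ) z hz))
      rw [map_mul, map_mul, map_inv, MulAut.apply_inv_self] at a2
      rwa [show (φ g * y⁻¹)⁻¹ * z * (φ g * y⁻¹)⁻¹⁻¹ = y * ((φ g)⁻¹ * z * φ g) * y⁻¹ by group]
    refine h2 _ (μ.comp ψ) (fun s hs => ?_) ?_ χ hχ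
    · rw [tup_vec hp Subtype.val] at hs
      show 0 ≤ (μ.comp ψ) (wL D l s.2.1 - wL D l s.2.2)
      rw [map_sub]
      exact sub_nonneg.2 ((adP hp p).tri (a1 _ s.1.2) hs)
    · rintro ⟨h, e⟩
      obtain ⟨t, ht, a2, a3, a4⟩ := exists_tor (p := p) hp (hf.comp_ne hμ) hr hrp
      have a5 : ∀ z ∈ R, t * (h * z * h⁻¹) = h * z * h⁻¹ * t := fun z hz => mx_injective (by
        rw [mx_mul t, mx_mul _ t, mx_T hp ht]
        ext i j
        rw [diagonal_mul, mul_diagonal, mul_comm]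
        by_cases e' : mx (h * z * h⁻¹) i j = 0
        · rw [e', zero_mul, zero_mul]
        · have a6 := congrFun e (⟨z, hz⟩, i, j)
          rw [tup_vec hp Subtype.val] at a6
          have a7 := a4 (wL D l i - wL D l j) (of_not_not fun e'' => e' (a6.trans (if_neg e'')))
          rw [(isMC_cX hp ht).sub, div_eq_one_iff_eq ((isMC_cX hp ht).ne_zero _)] at a7
          rw [a7])
      have a6 := hc (h⁻¹ * t * h) (fun z hz => by
        rw [show h⁻¹ * t * h * z = h⁻¹ * (t * (h * z * h⁻¹)) * h by group, a5 z hz]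
        group) (by rw [show h⁻¹ * t * h = h⁻¹ * t * h⁻¹⁻¹ by rw [inv_inv], conj_pow, a3, mul_one, mul_inv_cancel])
      exact a2 (by rw [show t = h * (h⁻¹ * t * h) * h⁻¹ by group, a6, mul_one, mul_inv_cancel]))
  exact hP (hE D l M hp p σ Γ K g₁ μ₁ h3 h4 h5)

end Cfsg.Agent.N2.Ex.K
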