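import Cfsg.Agent.N2.Ex.K.Mx
import Cfsg.Agent.N2.Ex.K.C4Core
import Cfsg.Agent.FP3.Aff.Scott

/-!
# S3519, exceptional groups, box (K): the centre of the Lie algebra, Scott's inequality (helper70)

* `cen_le_one`, `cen_eq_bot` : the fixed space of `Y`; `tor_le` : toral subspaces; `card_le_dd` : unipotent elements;
* `BoxCo` : the cofixed space; `scott_Y`.
-/

set_option autoImplicit false
set_option linter.unusedSectionVars false

namespace Cfsg.Agent.N2.Ex.K

open CoxeterSystem Cfsg Cfsg.Lie Cfsg.Lie.ChevalleyDatum Matrix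
open Cfsg.Agent.ChevalleyStructure Cfsg.Agent.ChevalleyStructure.Elts Cfsg.Agent.ChevalleyStructure.CoxeterGeom
  Cfsg.Agent.ChevalleyStructure.CoxeterGeomTypes
open Cfsg.Agent.Tits.Roots Cfsg.Agent.Tits.Core Cfsg.Agent.Nodes Cfsg.Agent.Nodes.Reps Cfsg.Agent.Nodes.BNOf
  Cfsg.Agent.Nodes.RGDChev Cfsg.Agent.Nodes.Bruhat Cfsg.Agent.Nodes.NormalForm
open Cfsg.Agent.KFacts.RgdField Cfsg.Agent.KFacts.RgdChevCoord
open Cfsg.Agent.BpExc Cfsg.Agent.BpExc.TorCent Cfsg.Agent.BpExc.TorChev Cfsg.Agent.BpExc.Tow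
  Cfsg.Agent.BpExc.TowChev Cfsg.Agent.BpExc.Fr Cfsg.Agent.BpExc.LangFr
open Cfsg.Agent.H469.Exc Cfsg.Agent.H129.TorusChar Cfsg.Agent.DS.Ex Cfsg.Agent.DS.Nt Cfsg.Agent.DS.Ex.Tor
  Cfsg.Agent.SB.Exc

/-- [CO] the cofixed space of a perfect group -/
def BoxCo : Prop := ∀ (D : ChevalleyDatum) (l : ℕ) (M : CoxeterMatrix (Fin l)) (_ : IsType D l M), Typ D →
  ∀ (p : ℕ) [Fact p.Prime], (D = chevF4 → p ≠ 2) → ∀ Z : Subgroup (YY D p), ⁅Z, Z⁆ = Z →
    ∀ C : Submodule (KK p) (D.Idx → KK p), (∀ z ∈ Z, ∀ v, ad D p z v - v ∈ C) →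
      Module.finrank (KK p) ((D.Idx → KK p) ⧸ C) ≤ Module.finrank (KK p) (Fx p (Z : Set (YY D p)))

variable {D : ChevalleyDatum} {l : ℕ} {M : CoxeterMatrix (Fin l)} (hp : IsType D l M) {p : ℕ} [Fact p.Prime]

theorem Irr.congr {M' : CoxeterMatrix (Fin l)} (hp' : IsType D l M') {R : Subgroup (YY D p)} (h : Irr hp p R) :
    Irr hp' p R := fun g μ hg => h g μ fun r hr =>
  PL_le (hp := hp') T_le_PL (fun a ha h0 => X_le_PL ((isRoot_iff hp _ a).2 ((isRoot_iff hp' _ a).1 ha)) h0) (hg r hr)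

include hp in
theorem cen_tab (hD : Typ D) : ∃ (i₀ : Fin l) (e : Fin l → ℤ) (B : Fin l → Fin l → ℤ) (b : Fin l → ℤ),
    (∀ i k, (if k = i then 1 else 0) = ∑ j, B i j * cartanOf D l k j + e i * (if k = i₀ then 1 else 0)) ∧
      ∀ k, (dM l : ℤ) * (if k = i₀ then 1 else 0) = ∑ j, b j * cartanOf D l k j := by
  have h := typ_l hp
  rcases hD with rfl | rfl | rfl | rfl
  · obtain rfl := h.1 rfl
    exact ⟨3, ![0, 0, 0, 0], ![![2, 3, 2, 1], ![3, 6, 4, 2], ![4, 8, 6, 3], ![2, 4, 3, 2]], ![2, 4, 3, 2],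
      by decide +kernel, by decide +kernel⟩
  · obtain rfl := h.2.1 rfl
    exact ⟨5, ![2, 0, 1, 0, 2, 1], ![![0, -1, -1, -2, -2, -2], ![1, 2, 2, 3, 2, 1], ![1, 1, 2, 2, 1, 0],
      ![2, 3, 4, 6, 4, 2], ![0, 0, 0, 0, 0, -1], ![0, 0, 0, 0, 0, 0]], ![2, 3, 4, 6, 5, 4],
      by decide +kernel, by decide +kernel⟩
  · obtain rfl := h.2.2.1 rfl
    exact ⟨6, ![0, 1, 0, 0, 1, 0, 1], ![![2, 2, 3, 4, 3, 2, 1], ![1, 2, 2, 3, 2, 1, 0], ![3, 4, 6, 8, 6, 4, 2],
      ![4, 6, 8, 12, 9, 6, 3], ![2, 3, 4, 6, 5, 3, 1], ![2, 3, 4, 6, 5, 4, 2], ![0, 0, 0, 0, 0, 0, 0]],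
      ![2, 3, 4, 6, 5, 4, 3], by decide +kernel, by decide +kernel⟩
  · obtain rfl := h.2.2.2 rfl
    exact ⟨7, ![0, 0, 0, 0, 0, 0, 0, 0], ![![4, 5, 7, 10, 8, 6, 4, 2], ![5, 8, 10, 15, 12, 9, 6, 3],
      ![7, 10, 14, 20, 16, 12, 8, 4], ![10, 15, 20, 30, 24, 18, 12, 6], ![8, 12, 16, 24, 20, 15, 10, 5],
      ![6, 9, 12, 18, 15, 12, 8, 4], ![4, 6, 8, 12, 10, 8, 6, 3], ![2, 3, 4, 6, 5, 4, 3, 2]],
      ![2, 3, 4, 6, 5, 4, 3, 2], by decide +kernel, by decide +kernel⟩

include hp in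
theorem cen_inT {v : D.Idx → KK p} (hv : v ∈ Fx p (Set.univ : Set (YY D p))) : InT p v := fun s => by
  by_contra hc
  refine (rt_vec hp s).ne_zero (sep hp p fun t ht => ?_)
  have h1 := congrFun (hv t (Set.mem_univ _)) (Sum.inr s)
  rw [ad_eq, mx_T hp ht, mulVec_diagonal, mul_eq_right₀ hc] at h1
  exact h1.trans (isMC_cX hp ht).zero.symm

theorem cen_rl {v : D.Idx → KK p} (hv : v ∈ Fx p (Set.univ : Set (YY D p))) {a : Fin l → ℤ} (ha : RT hp a) :
    rl hp v a = 0 :=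
  (Mx.mem_Rz (W := {v}) (fun _ e => e ▸ cen_inT hp hv) ha one_ne_zero fun _ e => e ▸ hv _ (Set.mem_univ _)).2 v rfl

include hp in
theorem cen_coord (hD : Typ D) : ∃ i₀ : Fin D.rank, ∀ v ∈ Fx p (Set.univ : Set (YY D p)),
    (dM l : KK p) * v (Sum.inl i₀) = 0 ∧ (v (Sum.inl i₀) = 0 → v = 0) := by
  obtain ⟨i₀, e, B, b, h1, h2⟩ := cen_tab hp hD
  obtain rfl := hp.rank_eq
  refine ⟨i₀, fun v hv => ?_⟩
  have h3 : ∀ c : Fin D.rank → ℤ, ∑ k, ((∑ j, c j * cartanOf D D.rank k j : ℤ) : KK p) * v (Sum.inl k) = 0 := fun c => by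
    simp only [Int.cast_sum, Int.cast_mul, Finset.sum_mul]
    rw [Finset.sum_comm]
    refine Finset.sum_eq_zero fun j _ => ?_
    have h4 := cen_rl hp hv (isRoot_sr _ _ j)
    rw [rl_apply] at h4
    simp only [DL.Ex.pairing_sr', Fin.cast_eq_self] at h4
    simp only [mul_assoc]
    rw [← Finset.mul_sum, h4, mul_zero]
  refine ⟨?_, fun h0 => funext fun i => ?_⟩
  · simpa [← h2] using h3 b
  · rcases i with i | s
    · have h4 := h3 (B i)
      simp only [fun k => eq_sub_of_add_eq (h1 i k).symm] at h4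
      simpa [sub_mul, h0] using h4
    · exact cen_inT hp hv s

include hp in
theorem cen_le_one (hD : Typ D) : Module.finrank (KK p) (Fx p (Set.univ : Set (YY D p))) ≤ 1 := by
  obtain ⟨i₀, h⟩ := cen_coord (p := p) hp hD
  refine (LinearMap.finrank_le_finrank_of_injective
    (f := (LinearMap.proj (Sum.inl i₀) : (D.Idx → KK p) →ₗ[KK p] KK p) ∘ₗ (Fx p (Set.univ : Set (YY D p))).subtype)
    ((injective_iff_map_eq_zero _).2 fun v hv => Subtype.ext ((h v v.2).2 hv))).trans (Module.finrank_self _).le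

include hp in
theorem cen_eq_bot (hD : Typ D) (h : ¬ p ∣ dM l) : Fx p (Set.univ : Set (YY D p)) = ⊥ := by
  obtain ⟨i₀, h1⟩ := cen_coord (p := p) hp hD
  exact eq_bot_iff.2 fun v hv => (h1 v hv).2 ((mul_eq_zero.1 (h1 v hv).1).resolve_left
    fun e => h ((CharP.cast_eq_zero_iff (KK p) p _).1 e))

include hp in
theorem tor_le {W : Submodule (KK p) (D.Idx → KK p)} {g : YY D p} (h : ∀ v ∈ W, InT p (ad D p g v)) :
    Module.finrank (KK p) W ≤ l := by
  refine (LinearMap.finrank_le_finrank_of_injective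
    (f := (LinearMap.funLeft (KK p) (KK p) (Sum.inl : Fin D.rank → D.Idx)) ∘ₗ ad D p g ∘ₗ W.subtype)
    ((injective_iff_map_eq_zero _).2 fun v hv => Subtype.ext ?_)).trans ?_
  · have h1 : ad D p g v = 0 := funext fun i => by
      rcases i with i | s
      · exact congrFun hv i
      · exact h v v.2 s
    rw [← Mx.ad_inv_ad g (v : D.Idx → KK p), h1, map_zero]
    rfl
  · rw [Module.finrank_fintype_fun_eq_card, Fintype.card_fin, hp.rank_eq]

theorem ker_pow_le {K V : Type*} [Field K] [AddCommGroup V] [Module K V] [FiniteDimensional K V] (f : Module.End K V)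
    (a : ℕ) : Module.finrank K (LinearMap.ker (f ^ a)) ≤ a * Module.finrank K (LinearMap.ker f) := by
  induction a with
  | zero => rw [pow_zero, Module.End.one_eq_id, LinearMap.ker_id, finrank_bot, zero_mul]
  | succ a ih =>
    let r : LinearMap.ker (f ^ (a + 1)) →ₗ[K] LinearMap.ker (f ^ a) :=
      (f ∘ₗ (LinearMap.ker (f ^ (a + 1))).subtype).codRestrict _ fun v => by
        have h : (f ^ (a + 1)) (v : V) = 0 := v.2
        exact (congrArg (fun g : Module.End K V => g (v : V)) (pow_succ f a)).symm.trans h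
    have h1 := LinearMap.finrank_range_add_finrank_ker r
    have h2 := Submodule.finrank_le (LinearMap.range r)
    have h3 : Module.finrank K (LinearMap.ker r) ≤ Module.finrank K (LinearMap.ker f) :=
      LinearMap.finrank_le_finrank_of_injective
        (f := ((LinearMap.ker (f ^ (a + 1))).subtype ∘ₗ (LinearMap.ker r).subtype).codRestrict (LinearMap.ker f)
          fun v => congrArg Subtype.val v.2)
        fun v w h => Subtype.ext (Subtype.ext (congrArg (fun z : LinearMap.ker f => (z : V)) h))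
    rw [Nat.succ_mul]
    omega

theorem card_le_dd {y : YY D p} {k : ℕ} (h : y ^ p ^ k = 1) : Fintype.card D.Idx ≤ p ^ k * dd p y := by
  have h1 := ker_pow_le (ad D p y - 1) (p ^ k)
  have : Nonempty D.Idx ∨ IsEmpty D.Idx := (isEmpty_or_nonempty _).symm
  rcases this with h0 | h0
  · have : CharP (Module.End (KK p) (D.Idx → KK p)) p := charP_of_injective_algebraMap (algebraMap (KK p) _).injective p
    rw [sub_pow_char_pow_of_commute p k (Commute.one_right _), ← map_pow, h, map_one, one_pow, sub_self,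
      LinearMap.ker_zero, finrank_top, Module.finrank_fintype_fun_eq_card] at h1
    rwa [dd, DS.NT.ev, Module.End.eigenspace_def, one_smul]
  · rw [Fintype.card_eq_zero]
    exact Nat.zero_le _

/-- **Scott's inequality** on the Lie algebra -/
theorem scott_Y {Z : Subgroup (YY D p)} {x y : YY D p} (h : Subgroup.closure {x, y} = Z) {n : ℕ}
    (hn : ∀ C : Submodule (KK p) (D.Idx → KK p), (∀ z ∈ Z, ∀ v, ad D p z v - v ∈ C) →
      Module.finrank (KK p) ((D.Idx → KK p) ⧸ C) ≤ n) :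
    dd p x + dd p y + dd p (x * y) ≤ Fintype.card D.Idx + Module.finrank (KK p) (Fx p (Z : Set (YY D p))) + n := by
  have h1 := FP3.scott_corr (ad D p x) (ad D p y)
  have k : ∀ z : YY D p, FP3.dfx (ad D p z) = dd p z := fun z => by
    rw [FP3.dfx, dd, DS.NT.ev, Module.End.eigenspace_def, one_smul]
    rfl
  have h2 : FP3.fixSp (ad D p x) ⊓ FP3.fixSp (ad D p y) = Fx p (Z : Set (YY D p)) := by
    ext v
    rw [Submodule.mem_inf, FP3.mem_fixSp, FP3.mem_fixSp, mem_Fx, ← h]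
    refine ⟨fun ⟨a, b⟩ z hz => ?_, fun a => ⟨a x (Subgroup.subset_closure (by simp)), a y (Subgroup.subset_closure (by simp))⟩⟩
    induction hz using Subgroup.closure_induction with
    | mem z hz => rcases hz with rfl | rfl <;> assumption
    | one => exact ad_one v
    | mul z w _ _ hz hw => rw [ad_mul, hw, hz]
    | inv z _ hz => rw [← hz, ← ad_mul, inv_mul_cancel, ad_one, hz]
  have h3 := hn (FP3.comSp (ad D p x) ⊔ FP3.comSp (ad D p y)) fun z hz' v => by
    have hz : z ∈ Subgroup.closure {x, y} := h ▸ hz'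
    clear hz'
    induction hz using Subgroup.closure_induction generalizing v with
    | mem z hz =>
      rcases hz with rfl | rfl
      · exact Submodule.mem_sup_left ⟨v, rfl⟩
      · exact Submodule.mem_sup_right ⟨v, rfl⟩
    | one => rw [ad_one, sub_self]; exact zero_mem _
    | mul z w _ _ hz hw =>
      rw [ad_mul, ← sub_add_sub_cancel _ (ad D p w v)]
      exact add_mem (hz _) (hw _)
    | inv z _ hz =>
      have h4 := neg_mem (hz (ad D p z⁻¹ v))
      rwa [← ad_mul, mul_inv_cancel, ad_one, neg_sub] at h4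
  rw [← map_mul, k, k, k, h2, Module.finrank_fintype_fun_eq_card] at h1
  omega

end Cfsg.Agent.N2.Ex.K
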