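import Cfsg.Agent.N2.Ex.K.Base
import Cfsg.Agent.Lib.AbelianFrobenius

/-!
# S3519, exceptional groups, box (K): the boxes TM and C (helper37)
-/

set_option autoImplicit false
set_option linter.unusedSectionVars false

namespace Cfsg.Agent.N2.Ex.K

open CoxeterSystem Cfsg Cfsg.Lie Cfsg.Lie.ChevalleyDatum
open Cfsg.Agent.ChevalleyStructure Cfsg.Agent.ChevalleyStructure.Elts Cfsg.Agent.ChevalleyStructure.CoxeterGeom
  Cfsg.Agent.ChevalleyStructure.CoxeterGeomTypes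
open Cfsg.Agent.Tits.Roots Cfsg.Agent.Tits.Core Cfsg.Agent.Nodes Cfsg.Agent.Nodes.Reps Cfsg.Agent.Nodes.BNOf
  Cfsg.Agent.Nodes.RGDChev Cfsg.Agent.Nodes.Bruhat Cfsg.Agent.Nodes.NormalForm
open Cfsg.Agent.KFacts.RgdField Cfsg.Agent.KFacts.RgdChevCoord
open Cfsg.Agent.BpExc Cfsg.Agent.BpExc.TorCent Cfsg.Agent.BpExc.TorChev Cfsg.Agent.BpExc.Tow
  Cfsg.Agent.BpExc.TowChev Cfsg.Agent.BpExc.Fr Cfsg.Agent.BpExc.LangFr
open Cfsg.Agent.H469.Exc Cfsg.Agent.H129.TorusChar Cfsg.Agent.DS.Ex Cfsg.Agent.DS.Nt Cfsg.Agent.DS.Ex.Tor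
  Cfsg.Agent.SB.Exc
open scoped Pointwise

namespace TMC

/-- the invariant Sylow subgroup of a fixed point free automorphism -/
theorem exists_inv {Y : Type*} [Group Y] (X : Subgroup Y) [Finite X] {σ : MulAut Y} {Γ : Subgroup (MulAut Y)}
    (hσ : σ ∈ Γ) (hc : ∀ φ ∈ Γ, φ * σ = σ * φ) (hX : ∀ φ ∈ Γ, ∀ x ∈ X, φ x ∈ X) (hf : ∀ x ∈ X, σ x = x → x = 1)
    {r : ℕ} (hr : r.Prime) {c : Y} (hcX : c ∈ X) (hcr : c ^ r = 1) (hc1 : c ≠ 1) :
    ∃ P : Subgroup Y, P ≤ X ∧ P ≠ ⊥ ∧ IsPGroup r P ∧ ∀ φ ∈ Γ, ∀ x ∈ P, φ x ∈ P := by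
  have := Fact.mk hr
  let res : ∀ φ ∈ Γ, MulAut X := fun φ hφ =>
    { toFun := fun x => ⟨φ x, hX φ hφ x x.2⟩
      invFun := fun x => ⟨φ⁻¹ x, hX _ (inv_mem hφ) x x.2⟩
      left_inv := fun x => Subtype.ext (φ.symm_apply_apply x)
      right_inv := fun x => Subtype.ext (φ.apply_symm_apply x)
      map_mul' := fun x y => Subtype.ext (map_mul φ _ _) }
  have hf' : ∀ x : X, res σ hσ x = x → x = 1 := fun x hx => Subtype.ext (hf x x.2 (congrArg Subtype.val hx))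
  obtain ⟨P, hP⟩ := Lib.AbelianFrobenius.exists_sylow_smul_eq (p := r) (res σ hσ) hf'
  refine ⟨(P : Subgroup X).map X.subtype, Subgroup.map_subtype_le _, fun h0 => ?_, P.isPGroup'.map _, ?_⟩
  · have h1 : (P : Subgroup X) = ⊥ := (Subgroup.map_eq_bot_iff_of_injective _ X.subtype_injective).1 h0
    have h2 := P.not_dvd_index
    rw [h1, Subgroup.index_bot] at h2
    have h3 : orderOf (⟨c, hcX⟩ : X) = r :=
      orderOf_eq_prime (Subtype.ext hcr) fun h => hc1 (congrArg Subtype.val h)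
    exact h2 (h3 ▸ orderOf_dvd_natCard _)
  · rintro φ hφ _ ⟨x, hx, rfl⟩
    have h1 : res σ hσ * res φ hφ = res φ hφ * res σ hσ := by
      ext y
      exact (congrArg (fun f : MulAut Y => f y) (hc φ hφ)).symm
    have h2 : res φ hφ • P = P := (Lib.AbelianFrobenius.sylow_eq_of_smul_eq _ hf' hP (by
      rw [← mul_smul, h1, mul_smul, hP])).symm
    have h3 : res φ hφ • x ∈ res φ hφ • (P : Subgroup X) := Subgroup.smul_mem_pointwise_smul _ _ _ hx
    rw [← Sylow.pointwise_smul_def, h2] at h3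
    exact ⟨_, h3, rfl⟩

variable {D : ChevalleyDatum} {l : ℕ} {M : CoxeterMatrix (Fin l)} {hp : IsType D l M} {p : ℕ} [Fact p.Prime]

/-- `M(Ψ) T` is invariant -/
theorem map_DD {A : Subgroup (YY D p)} [Finite A] (hA : A ≤ TT D (KK p)) {φ : MulAut (YY D p)}
    (hφ : ∀ a ∈ A, φ a ∈ A) {y : YY D p} (F : WFr hp p (MulAut.conj y * φ)) :
    ∀ m ∈ DD D p (Ps hp p A), φ m ∈ DD D p (Ps hp p A) := by
  have h0 : DD D p (Ps hp p A) ≤ (DD D p (Ps hp p A)).comap φ.toMonoidHom := by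
    refine sup_le (fun m hm => Subgroup.mem_sup_left (map_MS hA hφ F m hm)) fun t ht => ?_
    obtain ⟨m, hm, w, k, hk, e, -⟩ := form0 (hp := hp) hA hφ (y := y) fun t ht => (F.1 t).2 ht
    change φ t ∈ DD D p (Ps hp p A)
    rw [e]
    exact mul_mem (mul_mem (Subgroup.mem_sup_left hm) (Subgroup.mem_sup_right (((wfr_rp F hk).1 t).2 ht)))
      (inv_mem (Subgroup.mem_sup_left hm))
  exact h0

theorem DD_ne_top {A : Subgroup (YY D p)} (hA : A ≤ TT D (KK p)) (h0 : A ≠ ⊥) : DD D p (Ps hp p A) ≠ ⊤ := by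
  intro h
  refine h0 (eq_bot_iff.2 fun a ha => Subgroup.mem_bot.2 (cX_inj hp (hA ha) (one_mem _) fun i => ?_))
  have h1 : xc hp (sr i) (1 : KK p) ∈ DZ hp p A := by
    change _ ∈ DD D p (Ps hp p A)
    rw [h]
    trivial
  rw [cX_one]
  exact cX_eq_one_of_comm (hA ha) (isRoot_sr _ _ i) one_ne_zero (DZ_comm hA h1 ha).symm

end TMC

/-- **Box TM.** -/
theorem boxTM : BoxTM := by
  intro D l M hp p _ σ Γ K ⟨A, h0, hfin, ⟨z, hz⟩, hI⟩
  let A' : Subgroup (YY D p) := A.map (MulAut.conj z).toMonoidHom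
  have hA : A' ≤ TT D (KK p) := by
    rintro _ ⟨a, ha, rfl⟩
    exact hz a ha
  have hfin' : Finite A' := Finite.of_surjective _ ((MulAut.conj z).toMonoidHom.subgroupMap_surjective A)
  refine ⟨z⁻¹, Ps hp p A', cs_Ps hA, TMC.DD_ne_top hA fun h =>
    h0 ((Subgroup.map_eq_bot_iff_of_injective _ (MulAut.conj z).injective).1 h), fun φ hφ y hy => ?_⟩
  obtain ⟨φ', hφ', ⟨y0, ψ, F⟩, e⟩ := K.exists_frm hφ (Set.finite_singleton (z⁻¹ * y * z⁻¹⁻¹))
  rw [← e _ rfl]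
  have h1 : MulAut.conj (y0 * φ' z * z⁻¹) * (MulAut.conj z * φ' * MulAut.conj z⁻¹) = MulAut.conj y0 * φ' := by
    ext1 x
    simp only [MulAut.mul_apply, MulAut.conj_apply]
    simp only [map_mul, map_inv]
    group
  have h2 := TMC.map_DD (hp := hp) hA (φ := MulAut.conj z * φ' * MulAut.conj z⁻¹) (by
    rintro _ ⟨a, ha, rfl⟩
    refine ⟨φ' a, hI φ' hφ' a ha, ?_⟩
    simp only [MulEquiv.toMonoidHom_eq_coe, MonoidHom.coe_coe, MulAut.mul_apply, MulAut.conj_apply]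
    congr 3
    group) (y := y0 * φ' z * z⁻¹) (h1 ▸ F.wfr) y hy
  simpa only [MulAut.mul_apply, MulAut.conj_apply, inv_inv] using h2

/-- **Box C.** -/
theorem boxC : BoxC := by
  intro D l M hp p _ σ Γ R K _ hI _ hc hT
  have := finW hp
  obtain ⟨r, hr1, hr⟩ := Nat.exists_infinite_primes (Nat.card M.Group + p + 1)
  refine ⟨r, hr, by omega, fun c hcR hcr => ?_⟩
  by_contra hc1
  obtain ⟨N, hN, h1⟩ := K.exists_pow (Set.finite_singleton c)
  have h2 := K.amb.finite_fix_pow hN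
  let X : Subgroup (YY D p) := Subgroup.centralizer (R : Set (YY D p)) ⊓ DL.fix (σ ^ N)
  have h3 : Finite X := Finite.of_injective _ (Subgroup.inclusion_injective (inf_le_right : X ≤ _))
  have hX : ∀ φ ∈ Γ, ∀ x ∈ X, φ x ∈ X := by
    refine fun φ hφ x hx => ⟨fun y hy => ?_, ?_⟩
    · have h7 := congrArg φ (hx.1 _ (hI _ (inv_mem hφ) y hy))
      rwa [map_mul, map_mul, MulAut.apply_inv_self] at h7
    · have h7 : (σ ^ N) x = x := hx.2
      change (σ ^ N) (φ x) = φ x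
      rw [← MulAut.mul_apply, ← (Commute.pow_right (K.comm φ hφ) N).eq, MulAut.mul_apply, h7]
  obtain ⟨P, hPX, h4, h5, h6⟩ := TMC.exists_inv X K.mem K.comm hX
    (fun x hx h => hc x h fun y hy => (hx.1 y hy).symm) hr (c := c) ⟨fun y hy => (hcR y hy).symm, h1 c rfl⟩ hcr hc1
  have h7 : Finite P := Finite.of_injective _ (Subgroup.inclusion_injective hPX)
  refine hT ⟨P, h4, h7, H795.TorSub.exists_toral_of_not_dvd hp p (locFin p) hr (by omega) (fun h => ?_) h5, h6⟩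
  have := Nat.le_of_dvd Nat.card_pos h
  omega

end Cfsg.Agent.N2.Ex.K
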