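import Cfsg.Agent.N2.Ex.K.Defs
import Cfsg.Agent.DL.Dat.Mon
import Cfsg.Agent.DL.Dat.Conj

/-!
# S3519, exceptional groups, box (K): the frame of `SB.Exc` gives `KF` (helper51)
-/

set_option autoImplicit false
set_option linter.unusedSectionVars false

namespace Cfsg.Agent.N2.Ex.K

open CoxeterSystem Cfsg Cfsg.Lie Cfsg.Lie.ChevalleyDatum
open Cfsg.Agent.ChevalleyStructure Cfsg.Agent.ChevalleyStructure.Elts Cfsg.Agent.ChevalleyStructure.CoxeterGeom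
  Cfsg.Agent.ChevalleyStructure.CoxeterGeomTypes
open Cfsg.Agent.Tits.Roots Cfsg.Agent.Tits.Core Cfsg.Agent.Nodes Cfsg.Agent.Nodes.Reps Cfsg.Agent.Nodes.BNOf
  Cfsg.Agent.Nodes.RGDChev Cfsg.Agent.Nodes.Bruhat
open Cfsg.Agent.KFacts.RgdField Cfsg.Agent.KFacts.RgdChevCoord
open Cfsg.Agent.BpExc Cfsg.Agent.BpExc.TorCent Cfsg.Agent.BpExc.TorChev Cfsg.Agent.BpExc.Tow
  Cfsg.Agent.BpExc.TowChev Cfsg.Agent.BpExc.Fr Cfsg.Agent.BpExc.LangFr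
open Cfsg.Agent.H469.Exc Cfsg.Agent.H129.TorusChar Cfsg.Agent.DS.Ex Cfsg.Agent.DS.Nt Cfsg.Agent.DS.Ex.Tor
  Cfsg.Agent.SB.Exc

variable {D : ChevalleyDatum} {l : ℕ} {M : CoxeterMatrix (Fin l)} {hp : IsType D l M} {p : ℕ} [Fact p.Prime]

/-- a Steinberg endomorphism in the standard frame gives `Frm` -/
theorem frm_of_sem {φ : MulAut (YY D p)} (amb : DL.Amb p (D.group (KK p)).subtype φ) {y : YY D p}
    {g : (Fin l → ℤ) → (Fin l → ℤ)} {ex : (Fin l → ℤ) → ℕ} {Mx : Matrix (Fin l) (Fin l) ℤ}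
    (h : Sem hp p (MulAut.conj y * φ) g ex Mx) : ∃ ψ, Frm hp p φ y ψ := by
  let E : DL.Datum p (D.group (KK p)).subtype (MulAut.conj y * φ) ⊤ :=
    (DL.Ex.chev hp (locFin p) one_pos).newF (amb.conj_mul y) g ex h.root h.x Mx h.τ
  have hχ : ∀ t ∈ TT D (KK p), ∀ a, E.χ a t = cX hp t a := fun t ht a => by
    obtain ⟨c, rfl⟩ := (DL.Ex.mem_TT_iff hp t).1 ht
    exact (E.χ_τ a c).trans (DL.Ex.cX_tau hp c a).symm
  refine ⟨E.ψ, E.F_mem_T_iff, fun t ht x => ?_, g, E.g_bijOn (fun _ h => h) E.g_root, fun a ha =>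
    ⟨⟨_, pow_pos (Int.natCast_pos.2 (Fact.out : p.Prime).pos) _, E.ψ_g ha⟩, E.F_mem_X_iff ha⟩⟩
  exact (hχ _ ((E.F_mem_T_iff t).2 ht) x).symm.trans ((E.χ_ψ x ht).trans (hχ t ht _))

variable {q : ℕ} {G : Type} [Group G] {T : Subgroup G} (F : XF hp p q T)

theorem pi_sigma (hT : T.Normal) (hc : Subgroup.centralizer (T : Set G) = ⊥) : F.L.π ⟨F.L.σ, F.L.mem_σ⟩ = 1 := by
  rw [← Subgroup.mem_bot, ← hc]
  intro x hx
  have h1 := F.L.act ⟨F.L.σ, F.L.mem_σ⟩ ⟨x, hx⟩ ⟨_, hT.conj_mem x hx _⟩ rfl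
  have h2 : x = _ := congrArg Subtype.val (F.L.inj ((F.L.fix ⟨x, hx⟩).symm.trans h1))
  exact mul_inv_eq_iff_eq_mul.1 h2.symm |>.symm

theorem kappa_pos : 0 < F.κ := by
  rcases F.hκ with h | ⟨-, -, h⟩ <;> omega

theorem deg_pow (φ : F.L.Γ) (m : ℕ) : F.deg (φ * ⟨F.L.σ, F.L.mem_σ⟩ ^ m) = F.deg φ + m * (F.κ * F.m.e) := by
  induction m with
  | zero => simp
  | succ m ih =>
    rw [pow_succ, ← mul_assoc, F.deg_mul, ih, F.deg_σ]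
    push_cast
    ring

theorem exists_deg_pos (φ : F.L.Γ) : ∃ m : ℕ, 0 < F.deg (φ * ⟨F.L.σ, F.L.mem_σ⟩ ^ m) := by
  refine ⟨(F.deg φ).natAbs + 1, ?_⟩
  have h1 : (1 : ℤ) ≤ F.κ * F.m.e := by exact_mod_cast Nat.mul_pos (kappa_pos F) F.m.he
  have h2 := neg_abs_le (F.deg φ)
  have h3 := abs_nonneg (F.deg φ)
  rw [deg_pow]
  push_cast
  nlinarith

theorem boxXF : BoxXF := by
  intro D l M hp p _ q G _ T H F hT hc
  have hσ := F.pos ⟨F.L.σ, F.L.mem_σ⟩ (by rw [F.deg_σ]; exact_mod_cast Nat.mul_pos (kappa_pos F) F.m.he)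
  refine ⟨⟨⟨⟨F.L.σ, F.L.mem_σ⟩, ?_, rfl⟩, ?_, hσ.1, hσ.2, ?_, ?_⟩, fun A => ⟨fun h φ hφ => h φ ⟨φ, hφ, rfl⟩, ?_⟩, ?_⟩
  · change F.L.π _ ∈ H
    rw [pi_sigma F hT hc]
    exact H.one_mem
  · rintro _ ⟨φ, -, rfl⟩
    exact F.L.comm_σ φ φ.2
  · obtain ⟨h1, y, g, ex, Mx, h2⟩ := hσ
    exact ⟨y, frm_of_sem h1 h2⟩
  · rintro _ ⟨φ, -, rfl⟩
    obtain ⟨m, hm⟩ := exists_deg_pos F φ
    obtain ⟨h1, y, g, ex, Mx, h2⟩ := F.pos _ hm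
    exact ⟨m, y, frm_of_sem h1 h2⟩
  · rintro h _ ⟨φ, hφ, rfl⟩
    exact h φ hφ
  · rintro h _ ⟨φ, hφ, rfl⟩
    obtain ⟨m, hm⟩ := exists_deg_pos F φ
    obtain ⟨k, hk⟩ : (F.κ : ℤ) ∣ F.deg (φ * ⟨F.L.σ, F.L.mem_σ⟩ ^ m) := by
      rw [deg_pow]
      exact (h φ hφ).add ((Dvd.intro _ rfl).mul_left _)
    have h1 : 0 ≤ k := by
      by_contra h1
      have : (0 : ℤ) ≤ F.κ := Int.natCast_nonneg _
      nlinarith
    lift k to ℕ using h1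
    exact ⟨m, k, (F.frob _ k hk).1⟩

end Cfsg.Agent.N2.Ex.K
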