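import Cfsg.Agent.N2.Ex.Defs
import Cfsg.Agent.N2.Ex.K.Scott
import Cfsg.Agent.N2.Ex.K.Irr
import Cfsg.Agent.N2.Ex.K.XF
import Cfsg.Agent.N2.Ex.K.TMC

/-!
# S3519, exceptional groups, box (K): assembly (helper70)

* `boxTM : BoxTM`, `boxK_of : K.BoxCo → BoxK`.
-/

set_option autoImplicit false
set_option linter.unusedSectionVars false

namespace Cfsg.Agent.N2.Ex

open CoxeterSystem Cfsg Cfsg.Lie Cfsg.Lie.ChevalleyDatum Matrix
open Cfsg.Agent.ChevalleyStructure Cfsg.Agent.ChevalleyStructure.Elts Cfsg.Agent.ChevalleyStructure.CoxeterGeom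
  Cfsg.Agent.ChevalleyStructure.CoxeterGeomTypes
open Cfsg.Agent.Tits.Roots Cfsg.Agent.Tits.Core Cfsg.Agent.Nodes Cfsg.Agent.Nodes.Reps Cfsg.Agent.Nodes.BNOf
  Cfsg.Agent.Nodes.RGDChev Cfsg.Agent.Nodes.Bruhat Cfsg.Agent.Nodes.NormalForm
open Cfsg.Agent.KFacts.RgdField Cfsg.Agent.KFacts.RgdChevCoord
open Cfsg.Agent.BpExc Cfsg.Agent.BpExc.TorCent Cfsg.Agent.BpExc.TorChev Cfsg.Agent.BpExc.Tow
  Cfsg.Agent.BpExc.TowChev Cfsg.Agent.BpExc.Fr Cfsg.Agent.BpExc.LangFr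
open Cfsg.Agent.H469.Exc Cfsg.Agent.H129.TorusChar Cfsg.Agent.DS.Ex Cfsg.Agent.DS.Nt Cfsg.Agent.DS.Ex.Tor
  Cfsg.Agent.SB.Exc

variable {D : ChevalleyDatum} {l : ℕ} {M : CoxeterMatrix (Fin l)} {hp : IsType D l M} {p : ℕ} [Fact p.Prime]
  {q : ℕ} {G : Type} [Group G] [Finite G] {T H R : Subgroup G} (F : XF hp p q T)

/-- the lifts of `H` -/
noncomputable abbrev K.Gm (H : Subgroup G) : Subgroup (MulAut (YY D p)) := (H.comap F.L.π).map F.L.Γ.subtype

variable {F}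

theorem K.kf (h : DS.Setup T H) : K.KF hp p F.L.σ (K.Gm F H) := (K.boxXF D l M hp p q G T H F h.normal h.cent).1

theorem K.iv_iff (h : DS.Setup T H) {A : Subgroup (YY D p)} : K.Iv (K.Gm F H) A ↔ F.L.Inv H A :=
  (K.boxXF D l M hp p q G T H F h.normal h.cent).2.1 A

theorem K.ev (h : DS.Setup T H) (h2 : D = chevF4 → p ≠ 2) : K.Ev p F.L.σ (K.Gm F H) :=
  (K.boxXF D l M hp p q G T H F h.normal h.cent).2.2 fun φ _ => by
    rcases F.hκ with e | ⟨e, e', -⟩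
    · rw [e, Nat.cast_one]
      exact one_dvd _
    · exact absurd e' (h2 e)

theorem K.invMR (h : DS.Setup T H) (hM : K.HasM hp p (K.Gm F H)) : InvMR F H := by
  have := finW hp
  obtain ⟨x, S, h1, h2, h3⟩ := hM
  have e : MR D p S = DD D p S := sup_comm _ _
  refine ⟨x, S, ⟨h1.cl.root, fun w i hw b hb => SubBN.refl_mem h1.cl h1.neg hw hb⟩, e ▸ h2, (K.iv_iff h).1 ?_⟩
  intro φ hφ a ha
  rw [TH.mem_cj, e] at ha ⊢
  have h4 := h3 φ hφ _ ha
  rwa [show x * (x⁻¹ * a * x) * x⁻¹ = a by group] at h4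

/-- **[TM]** -/
theorem boxTM : BoxTM := by
  intro D l M hp p _ tw f G _ _ T H F C A₀ ⟨z, hz⟩ hI h0
  have K' := K.kf (F := F) C.cx.setup
  obtain ⟨⟨a, ha⟩, h1⟩ := Subgroup.ne_bot_iff_exists_ne_one.1 h0
  obtain ⟨N, hN, h2⟩ := K'.exists_pow (Set.finite_singleton a)
  have h3 := K'.amb.finite_fix_pow hN
  refine K.invMR C.cx.setup (K.boxTM D l M hp p _ _ K' ⟨A₀ ⊓ DL.fix (F.L.σ ^ N), Subgroup.ne_bot_iff_exists_ne_one.2
    ⟨⟨a, ha, h2 a rfl⟩, fun e => h1 (Subtype.ext (show a = 1 from congrArg Subtype.val e))⟩,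
    Finite.of_injective _ (Subgroup.inclusion_injective inf_le_right), ⟨z, fun b hb => hz b hb.1⟩,
    fun φ hφ b hb => ⟨(K.iv_iff C.cx.setup).2 hI φ hφ b hb.1, ?_⟩⟩)
  change (F.L.σ ^ N) (φ b) = φ b
  rw [← MulAut.mul_apply, ← (Commute.pow_right (K'.comm φ hφ) N).eq, MulAut.mul_apply, show (F.L.σ ^ N) b = b from hb.2]

theorem K.noP (C : DS.Nt.Ctx F.L H) : ¬ K.HasP p F.L.σ (K.Gm F H) := by
  rintro ⟨Q, h0, h1, h2, h3⟩
  have h4 := C.noP (pb F.L Q) (pb_le Q) (fun x => by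
    obtain ⟨hx, hx'⟩ := mem_pb.1 x.2
    obtain ⟨k, hk⟩ := h1 ⟨_, hx'⟩
    refine ⟨k, Subtype.ext ?_⟩
    have h5 : (⟨x, hx⟩ : T) ^ p ^ k = 1 := F.L.inj (by rw [map_pow, map_one]; exact congrArg Subtype.val hk)
    exact congrArg (fun z : T => (z : G)) h5) (norm_pb C.setup.normal ((K.iv_iff C.setup).1 h3))
  refine h0 (eq_bot_iff.2 fun u hu => ?_)
  obtain ⟨k, hk⟩ := h1 ⟨u, hu⟩
  obtain ⟨x, rfl⟩ := F.L.pel u (h2 u hu) ⟨k, congrArg Subtype.val hk⟩
  have h5 := coe_mem_pb.2 hu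
  rw [h4, Subgroup.mem_bot] at h5
  rw [show x = 1 from Subtype.ext h5, map_one]
  exact one_mem _

theorem K.noT (C : DS.Nt.Ctx F.L H) : ¬ K.HasT p (K.Gm F H) :=
  fun ⟨A, h0, _, h1, h2⟩ => h0 (C.noT A h1 ((K.iv_iff C.setup).1 h2))

theorem K.iv_im (h : DS.Setup T H) (hR : Prf T H R) : K.Iv (K.Gm F H) (im F.L R) :=
  (K.iv_iff h).2 (inv_im h.normal (K.le_normalizer_of hR.nrm))

theorem K.cen (C : DS.Nt.Ctx F.L H) (hR : Prf T H R) (c : YY D p) (h1 : F.L.σ c = c)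
    (h2 : ∀ x ∈ im F.L R, c * x = x * c) : c = 1 := by
  have K' := K.kf (F := F) C.setup
  have hf := K'.amb.finite_fix
  let X : Subgroup (YY D p) := Subgroup.centralizer (im F.L R : Set (YY D p)) ⊓ DL.fix F.L.σ
  have hX : Finite X := Finite.of_injective _ (Subgroup.inclusion_injective (inf_le_right : X ≤ _))
  have h3 : ∀ t : T, F.L.ι t ∈ X → t = 1 := fun t ht => Subtype.ext (hR.cent t t.2 fun x hx => by
    have h4 : t * ⟨x, (hR.le hx).2⟩ = ⟨x, (hR.le hx).2⟩ * t :=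
      F.L.inj (by rw [map_mul, map_mul]; exact (ht.1 _ (ι_mem_im.2 hx)).symm)
    exact congrArg Subtype.val h4)
  have h4 : Nat.card X ≤ 3 := by
    have h5 : Nat.card (X × T) ≤ Nat.card (DL.fix F.L.σ) := Nat.card_le_card_of_injective
      (fun z => ⟨z.1 * F.L.ι z.2, mul_mem z.1.2.2 (F.L.fix z.2)⟩) fun z z' e => by
        have e' : (z.1 : YY D p) * F.L.ι z.2 = z'.1 * F.L.ι z'.2 := congrArg Subtype.val e
        have e₂ : F.L.ι (z.2 * z'.2⁻¹) = (z.1 : YY D p)⁻¹ * z'.1 := by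
          rw [map_mul, map_inv, eq_inv_mul_iff_mul_eq, ← mul_assoc, e', mul_inv_cancel_right]
        have e₃ := mul_inv_eq_one.1 (h3 _ (e₂ ▸ mul_mem (inv_mem z.1.2) z'.1.2))
        rw [e₃, mul_left_inj] at e'
        exact Prod.ext (Subtype.ext e') e₃
    rw [Nat.card_prod] at h5
    refine (Nat.le_of_mul_le_mul_right (h5.trans F.idx) Nat.card_pos).trans ?_
    unfold dM
    split_ifs <;> omega
  have hc : c ∈ X := ⟨fun x hx => (h2 x hx).symm, h1⟩
  by_contra h0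
  have h5 : Subgroup.zpowers c = X := by
    refine Subgroup.eq_of_le_of_card_ge ((Subgroup.zpowers_le).2 hc) ?_
    obtain ⟨k, hk⟩ := Subgroup.card_dvd_of_le ((Subgroup.zpowers_le).2 hc)
    have h6 : Nat.card (Subgroup.zpowers c) ≠ 1 := by
      rw [Nat.card_zpowers]
      exact fun e => h0 (orderOf_eq_one_iff.1 e)
    have h7 : 0 < Nat.card X := Nat.card_pos
    rcases k with _ | _ | k
    · omega
    · omega
    · rcases Nat.eq_zero_or_pos (Nat.card (Subgroup.zpowers c)) with e | e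
      · rw [e] at hk
        omega
      · nlinarith [show 2 ≤ Nat.card (Subgroup.zpowers c) by omega]
  have h6 : c ^ F.L.dd = 1 := by
    obtain ⟨t, ht⟩ := F.L.pow_dd c h1
    rw [← ht, h3 t (ht ▸ pow_mem hc _), map_one]
  by_cases h7 : F.L.dd.Coprime p
  · obtain ⟨z, hz⟩ := Cb.exists_tor hp h7 h6
    have h8 := C.noT X ⟨z, fun a ha => by
      obtain ⟨k, rfl⟩ := Subgroup.mem_zpowers_iff.1 (h5.ge ha)
      rw [← conj_zpow]
      exact zpow_mem hz k⟩ ((K.iv_iff C.setup).1 fun φ hφ x hx => ⟨fun y hy => by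
        have h9 := congrArg φ (hx.1 _ (K.iv_im C.setup hR _ (inv_mem hφ) y hy))
        rwa [map_mul, map_mul, MulAut.apply_inv_self] at h9, by
        change F.L.σ (φ x) = φ x
        rw [← MulAut.mul_apply, ← K'.comm φ hφ, MulAut.mul_apply, show F.L.σ x = x from hx.2]⟩)
    exact h0 (Subgroup.mem_bot.1 (h8 ▸ hc))
  · have h8 : F.L.dd = p := by
      rcases F.L.hdd with e | ⟨-, e⟩ | ⟨-, e⟩ <;> rw [e] at h7 ⊢
      · exact absurd (Nat.coprime_one_left p) h7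
      · exact of_not_not fun e' => h7 ((Nat.coprime_primes Nat.prime_three Fact.out).2 e')
      · exact of_not_not fun e' => h7 ((Nat.coprime_primes Nat.prime_two Fact.out).2 e')
    obtain ⟨t, rfl⟩ := F.L.pel c h1 ⟨1, by rw [pow_one]; exact (congrArg (c ^ ·) h8).symm.trans h6⟩
    exact h0 (by rw [h3 t hc, map_one])

theorem K.perf_im (hR : Prf T H R) : ⁅im F.L R, im F.L R⁆ = im F.L R := by
  have e : (R.subgroupOf T).map T.subtype = R := Subgroup.map_subgroupOf_eq_of_le (hR.le.trans inf_le_right)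
  rw [im, ← Subgroup.map_commutator]
  congr 1
  apply Subgroup.map_injective T.subtype_injective
  rw [Subgroup.map_commutator, e, hR.perf]

include hp in
theorem K.cen_le (hD : Typ D) :
    Module.finrank (KK p) (Fx p (Set.univ : Set (YY D p))) ≤ zc l p := by
  by_cases h : p ∣ dM l
  · refine (K.cen_le_one hp hD).trans ?_
    have h1 : p.Prime := Fact.out
    unfold dM at h
    unfold zc
    split_ifs at h with a b
    · rw [if_neg (by omega), if_pos (Or.inl ⟨a, (Nat.prime_dvd_prime_iff_eq h1 Nat.prime_three).1 h⟩)]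
    · rw [if_neg (by omega), if_pos (Or.inr ⟨b, (Nat.prime_dvd_prime_iff_eq h1 Nat.prime_two).1 h⟩)]
    · exact absurd (Nat.dvd_one.1 h) h1.ne_one
  · rw [K.cen_eq_bot hp hD h, finrank_bot]
    exact Nat.zero_le _

/-- **[K]** -/
theorem boxK_of (hCo : K.BoxCo) : BoxK := by
  intro D l M hp p _ tw f G _ _ T H F C R hR
  have S := C.cx.setup
  have k1 : K.Irr hp p (im F.L R) := K.boxIrr_of K.boxEnd D l M hp p _ _ _ (K.kf S) (finite_im _ _) (K.iv_im S hR)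
    (K.boxC D l M hp p _ _ _ (K.kf S) (finite_im _ _) (K.iv_im S hR) (fun x hx => by
      obtain ⟨y, -, rfl⟩ := mem_im.1 hx
      exact F.L.fix y) (K.cen C.nt hR) (K.noT C.nt)) (K.noP C.nt)
  have k2 := K.boxTor D l M hp C.typ p _ (K.boxSS D l M hp C.typ p _ k1)
  have k3 : (D = chevF4 → p ≠ 2) → Fx p (im F.L R : Set (YY D p)) ≤ Fx p (Set.univ : Set (YY D p)) := fun h =>
    K.boxMx hp (K.kf S) ⟨_, F.L.frob⟩ (K.ev S h) (K.iv_im S hR) k2 fun h' => C.nmr (K.invMR S h')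
  refine ⟨k1, k2, k3, fun y => dd p (F.L.ι y), fun _ _ => rfl,
    fun y k h => K.card_le_dd (by rw [← map_pow, h, map_one]), fun x y h => ?_⟩
  have h3 : Subgroup.closure {F.L.ι x, F.L.ι y} = im F.L R := by
    have h4 : R.subgroupOf T = Subgroup.closure {x, y} := by
      apply Subgroup.map_injective T.subtype_injective
      rw [Subgroup.map_subgroupOf_eq_of_le (hR.le.trans inf_le_right), MonoidHom.map_closure, Set.image_pair, ← h]
      rfl
    rw [im, h4, MonoidHom.map_closure, Set.image_pair]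
  show dd p (F.L.ι x) + dd p (F.L.ι y) + dd p (F.L.ι (x * y)) ≤ _
  rw [map_mul]
  by_cases h2 : D = chevF4 → p ≠ 2
  · have h4 := K.scott_Y h3 (hCo D l M hp C.typ p h2 _ (K.perf_im hR))
    have h5 := (Submodule.finrank_mono (k3 h2)).trans (K.cen_le (hp := hp) C.typ)
    omega
  · push Not at h2
    obtain ⟨rfl, rfl⟩ := h2
    obtain rfl := (typ_l hp).1 rfl
    have h4 := K.scott_Y h3 fun C hC => K.C4.core K.boxSS (K.Irr.congr hp _ k1) hC
    obtain ⟨g, hg⟩ := k2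
    have h5 := K.tor_le hp hg
    rw [show zc 4 2 = 4 from rfl]
    omega

end Cfsg.Agent.N2.Ex
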