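import Cfsg.Agent.N2.Ex.K.Poly
import Cfsg.Agent.N2.Ex.K.Tor

/-!
# S3519, exceptional groups, box (K): limits and semisimple vectors (helper70)

* `boxLim : BoxLim`, `boxSS : BoxSS`.
-/

set_option autoImplicit false
set_option linter.unusedSectionVars false

namespace Cfsg.Agent.N2.Ex.K

open CoxeterSystem Cfsg Cfsg.Lie Cfsg.Lie.ChevalleyDatum Matrix
open Cfsg.Agent.ChevalleyStructure Cfsg.Agent.ChevalleyStructure.Elts Cfsg.Agent.ChevalleyStructure.CoxeterGeom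
  Cfsg.Agent.ChevalleyStructure.CoxeterGeomTypes
open Cfsg.Agent.Tits.Roots Cfsg.Agent.Tits.Core Cfsg.Agent.Nodes Cfsg.Agent.Nodes.Reps Cfsg.Agent.Nodes.BNOf
  Cfsg.Agent.Nodes.RGDChev Cfsg.Agent.Nodes.Bruhat Cfsg.Agent.Nodes.NormalForm
open Cfsg.Agent.KFacts.RgdField Cfsg.Agent.KFacts.RgdChevCoord
open Cfsg.Agent.BpExc Cfsg.Agent.BpExc.TorCent Cfsg.Agent.BpExc.TorChev Cfsg.Agent.BpExc.Tow
  Cfsg.Agent.BpExc.TowChev Cfsg.Agent.BpExc.Fr Cfsg.Agent.BpExc.LangFr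
open Cfsg.Agent.H469.Exc Cfsg.Agent.H129.TorusChar Cfsg.Agent.DS.Ex Cfsg.Agent.DS.Nt Cfsg.Agent.DS.Ex.Tor
  Cfsg.Agent.SB.Exc

variable {D : ChevalleyDatum} {l : ℕ} {M : CoxeterMatrix (Fin l)} {hp : IsType D l M} {p : ℕ} [Fact p.Prime]

/-- the frames of an inner automorphism -/
theorem Frm.inner {z y : YY D p} {ψ : (Fin l → ℤ) →+ (Fin l → ℤ)} (h : Frm hp p (MulAut.conj z) y ψ) :
    ∃ w, RP hp p w (y * z) ∧ ∀ a, ψ a = rA hp w⁻¹ a := by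
  have e : ∀ t, y * MulAut.conj z t * y⁻¹ = y * z * t * (y * z)⁻¹ := fun t => by
    rw [MulAut.conj_apply]
    group
  obtain ⟨w, hw⟩ := rp_of_norm (hp := hp) (d := y * z) fun t => by rw [← e, h.tor]
  refine ⟨w, hw, fun a => sep hp p fun t ht => ?_⟩
  rw [← h.chr t ht, e]
  exact (Frm.rp hw).chr t ht a

theorem Frm.conj (z : YY D p) : ∃ y ψ, Frm hp p (MulAut.conj z) y ψ := by
  have e : ∀ t, z⁻¹ * MulAut.conj z t * z⁻¹⁻¹ = t := fun t => by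
    rw [MulAut.conj_apply]
    group
  exact ⟨z⁻¹, AddMonoidHom.id _, fun t => by rw [e], fun t _ x => by rw [e]; rfl, id, Set.bijOn_id _,
    fun a _ => ⟨⟨1, one_pos, (one_smul _ _).symm⟩, fun x => by rw [e]; rfl⟩⟩

theorem eq_one_of_rA {μ : (Fin l → ℤ) →+ ℝ} (hμ : μ ≠ 0) {w : M.Group} {s : ℝ} (hs : 0 < s)
    (h : ∀ a, μ (rA hp w a) = s * μ a) : s = 1 := by
  have := finW hp
  have h1 : ∀ (k : ℕ) (a : Fin l → ℤ), μ (rA hp (w ^ k) a) = s ^ k * μ a := fun k => by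
    induction k with
    | zero => exact fun a => by rw [pow_zero, rA_one, pow_zero, one_mul]
    | succ k ih => exact fun a => by rw [pow_succ, rA_mul, ih, h, pow_succ, mul_assoc]
  obtain ⟨i, hi⟩ := exists_sr_ne hμ
  have h2 := h1 (orderOf w) (sr i)
  rw [pow_orderOf_eq_one, rA_one] at h2
  exact (pow_eq_one_iff_of_nonneg hs.le (orderOf_pos w).ne').1 ((mul_eq_right₀ hi).1 h2.symm)

theorem PRep.lim_rp {S : Type} [Fintype S] [DecidableEq S] (P : PRep hp p S) {w : M.Group} {n : YY D p}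
    (hn : RP hp p w n) (μ : (Fin l → ℤ) →+ ℝ) (v : S → KK p) :
    lim P.w (μ.comp (rA hp w⁻¹)) (P.ρ n *ᵥ v) = P.ρ n *ᵥ lim P.w μ v := by
  funext s
  have h1 : ∀ s', P.ρ n s s' ≠ 0 → (μ.comp (rA hp w⁻¹)) (P.w s) = μ (P.w s') := fun s' e => by
    rw [AddMonoidHom.comp_apply, P.mon hn e, rA_inv]
  rw [lim]
  split_ifs with e
  · refine Finset.sum_congr rfl fun s' _ => ?_
    by_cases e' : P.ρ n s s' = 0
    · show P.ρ n s s' * _ = P.ρ n s s' * _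
      rw [e', zero_mul, zero_mul]
    · rw [lim, if_pos (h1 s' e' ▸ e)]
  · refine (Finset.sum_eq_zero fun s' _ => ?_).symm
    show P.ρ n s s' * _ = 0
    by_cases e' : P.ρ n s s' = 0
    · rw [e', zero_mul]
    · rw [lim, if_neg (h1 s' e' ▸ e), mul_zero]

/-- **[LIM]** -/
theorem boxLim : BoxLim := by
  intro D l M hp p _ S _ _ P Z hZ x hx g μ hw
  suffices h : lim P.w μ (P.ρ g *ᵥ x) ∈ P.Ob x by
    obtain ⟨h, e⟩ := h
    exact ⟨h, fun s => ⟨fun h0 => by rw [e, lim, if_pos h0], fun h0 => by rw [e, lim, if_neg h0]⟩⟩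
  by_contra hc
  obtain ⟨S₀, h1, h2⟩ := P.exists_sta x
  obtain ⟨g₁, μ₁, h3, h4, h5⟩ := kempf h1 (Z.map MulAut.conj) (g₀ := g⁻¹) (μ₀ := μ) (by
    rintro _ ⟨z, hz, rfl⟩ y ψ hf χ hχ
    obtain ⟨w, hn, e⟩ := hf.inner
    have e₁ : P.ρ (MulAut.conj z g⁻¹ * y⁻¹)⁻¹ *ᵥ x = P.ρ (y * z) *ᵥ P.ρ g *ᵥ x := by
      rw [show (MulAut.conj z g⁻¹ * y⁻¹)⁻¹ = y * z * (g * z⁻¹) by rw [MulAut.conj_apply]; group, P.mul_vec, P.mul_vec,
        P.mul_vec, P.mul_vec, hx _ (inv_mem hz)]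
    rw [e]
    refine h2 _ (μ.comp (rA hp w⁻¹)) (fun s hs => ?_) (fun ho => hc ?_) χ hχ
    · rw [e₁] at hs
      obtain ⟨s', -, a1⟩ := Finset.exists_ne_zero_of_sum_ne_zero hs
      rw [AddMonoidHom.comp_apply, P.mon hn (left_ne_zero_of_mul a1), rA_inv]
      exact hw s' (right_ne_zero_of_mul a1)
    · rw [e₁, P.lim_rp hn] at ho
      have a1 := P.stb_ob x (y * z)⁻¹ _ ho
      rwa [P.inv_vec] at a1)
  refine h3 (hZ g₁ μ₁ fun z hz => ?_)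
  obtain ⟨y, ψ, s, hf, hs, a1, a2⟩ := h5 _ ⟨z, hz, rfl⟩ (Frm.conj z)
  obtain ⟨w, hn, e⟩ := hf.inner
  simp only [e] at a1
  obtain rfl := eq_one_of_rA h3 hs a1
  have a3 := rep_mem_PL h4 _ _ _ rfl hn.inv fun a => by rw [a1, one_mul]
  have a4 := mul_mem a2 (inv_mem a3)
  rwa [show g₁⁻¹ * MulAut.conj z g₁ * y⁻¹ * (y * z)⁻¹⁻¹ = g₁⁻¹ * z * g₁ by rw [MulAut.conj_apply]; group] at a4

/-- the height -/
noncomputable def htR (l : ℕ) : (Fin l → ℤ) →+ ℝ where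
  toFun a := ∑ i, (a i : ℝ)
  map_zero' := by simp
  map_add' a b := by simp [Finset.sum_add_distrib]

theorem htR_nonneg {a : Fin l → ℤ} (h : 0 ≤ a) : 0 ≤ htR l a :=
  Finset.sum_nonneg (s := Finset.univ) (f := fun i => (a i : ℝ)) fun i _ => Int.cast_nonneg (h i)

theorem htR_pos {a : Fin l → ℤ} (h : 0 ≤ a) (h0 : a ≠ 0) : 0 < htR l a := by
  obtain ⟨i, hi⟩ := Function.ne_iff.1 h0
  exact Finset.sum_pos' (fun i _ => Int.cast_nonneg (h i)) ⟨i, Finset.mem_univ _, Int.cast_pos.2 (lt_of_le_of_ne (h i) hi.symm)⟩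

theorem htR_ne {a : Fin l → ℤ} (ha : RT hp a) : htR l a ≠ 0 := by
  rcases ha.pos_or_neg with h | h
  · exact (htR_pos h ha.ne_zero).ne'
  · have h1 := htR_pos (neg_nonneg.2 h) ha.neg.ne_zero
    rw [map_neg] at h1
    exact (neg_pos.1 h1).ne

/-- **[SS]** -/
theorem boxSS : BoxSS := by
  intro D l M hp hD p _ R hR v hv
  obtain ⟨g, hg, h1⟩ := E8A.Bor.exists_inB (K := KK p) hp.inList (fun r => by
    obtain ⟨i, h | h⟩ := Tor.car_one hD r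
    · exact ⟨i, by rw [show (D.cartanSR.getD i.val #[]).getD r.val 0 = 1 from h, Int.cast_one]; exact one_ne_zero⟩
    · exact ⟨i, by
        rw [show (D.cartanSR.getD i.val #[]).getD r.val 0 = -1 from h, Int.cast_neg, Int.cast_one]
        exact neg_ne_zero.2 one_ne_zero⟩) v
  obtain ⟨h, h2⟩ := boxLim D l M hp p _ (adP hp p) R hR v hv ⟨g, hg⟩ (htR l) (by
    rintro (i | r) hs
    · exact (map_zero (htR l)).ge
    · have h3 : D.IsPosRoot r := (Unitriangular.isPosRoot_iff (Unitriangular.orderCheck_of_mem hp.inList) r).2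
        ⟨r.2, not_lt.1 fun e => hs (h1 r e)⟩
      exact htR_nonneg fun i => ((RootVec.isPosRoot_iff hp.checked r).1 h3).2 i (lt_rank hp i))
  exact ⟨h, fun s => (h2 (Sum.inr s)).2 (htR_ne (rt_vec hp s))⟩

end Cfsg.Agent.N2.Ex.K
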