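import Cfsg.Agent.N2.Ex.K.End
import Cfsg.Agent.N2.Ex.K.Lim

/-!
# S3519, exceptional groups, box (K): toral fixed spaces (helper70)

* `St W` : the pointwise stabiliser, `Rz W` : the roots vanishing on `W`; `St.dec` (CONJ), `conj_T_le`;
* `boxMx` : a toral fixed space is central or gives an invariant subgroup of maximal rank.
-/

set_option autoImplicit false
set_option linter.unusedSectionVars false

namespace Cfsg.Agent.N2.Ex.K.Mx

open CoxeterSystem Cfsg Cfsg.Lie Cfsg.Lie.ChevalleyDatum Matrix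
open Cfsg.Agent.ChevalleyStructure Cfsg.Agent.ChevalleyStructure.Elts Cfsg.Agent.ChevalleyStructure.CoxeterGeom
  Cfsg.Agent.ChevalleyStructure.CoxeterGeomTypes
open Cfsg.Agent.Tits.Roots Cfsg.Agent.Tits.Core Cfsg.Agent.Nodes Cfsg.Agent.Nodes.Reps Cfsg.Agent.Nodes.BNOf
  Cfsg.Agent.Nodes.RGDChev Cfsg.Agent.Nodes.Bruhat Cfsg.Agent.Nodes.NormalForm
open Cfsg.Agent.KFacts.RgdField Cfsg.Agent.KFacts.RgdChevCoord
open Cfsg.Agent.BpExc Cfsg.Agent.BpExc.TorCent Cfsg.Agent.BpExc.TorChev Cfsg.Agent.BpExc.Tow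
  Cfsg.Agent.BpExc.TowChev Cfsg.Agent.BpExc.Fr Cfsg.Agent.BpExc.LangFr
open Cfsg.Agent.H469.Exc Cfsg.Agent.H129.TorusChar Cfsg.Agent.DS.Ex Cfsg.Agent.DS.Nt Cfsg.Agent.DS.Ex.Tor
  Cfsg.Agent.SB.Exc

variable {D : ChevalleyDatum} {l : ℕ} {M : CoxeterMatrix (Fin l)} {hp : IsType D l M} {p : ℕ} [Fact p.Prime]

theorem sub_entry {μ : (Fin l → ℤ) →+ ℝ} {u : YY D p} (hu : u ∈ UL hp p μ) {i j : D.Idx} (h : (mx u - 1) i j ≠ 0) :
    μ (wL D l j) < μ (wL D l i) := by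
  let Q : YY D p → Prop := fun u => ∀ i j, (mx u - 1) i j ≠ 0 → μ (wL D l j) < μ (wL D l i)
  have hm : ∀ a b, Q a → Q b → Q (a * b) := fun a b ha hb i j h => by
    rw [show mx (a * b) - 1 = (mx a - 1) * (mx b - 1) + ((mx a - 1) + (mx b - 1)) by
      rw [mx_mul, sub_mul, mul_sub, mul_one, one_mul]; abel, Matrix.add_apply, Matrix.add_apply] at h
    by_contra hc
    refine h ?_
    rw [of_not_not fun e => hc (ha i j e), of_not_not fun e => hc (hb i j e), add_zero, add_zero]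
    by_contra e
    obtain ⟨k, h1, h2⟩ := exists_mid e
    exact hc ((hb _ _ h2).trans (ha _ _ h1))
  have h0 : Q 1 := fun i j h => (h (by rw [mx_one, sub_self]; rfl)).elim
  let K : Subgroup (YY D p) :=
    { carrier := {u | Q u ∧ Q u⁻¹}
      one_mem' := ⟨h0, by rw [inv_one]; exact h0⟩
      mul_mem' := fun ha hb => ⟨hm _ _ ha.1 hb.1, by rw [_root_.mul_inv_rev]; exact hm _ _ hb.2 ha.2⟩
      inv_mem' := fun h => ⟨h.2, by rw [inv_inv]; exact h.1⟩ }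
  have hX : ∀ a, RT hp a → 0 < μ a → ∀ x ∈ XX D l (KK p) a, Q x := fun a ha h0 x hx i j h => by
    obtain ⟨m, hm, e⟩ := xc_sub_entry hp ha hx h
    rw [e, map_add, map_zsmul, zsmul_eq_mul]
    exact lt_add_of_pos_right _ (mul_pos (by exact_mod_cast hm) h0)
  have h1 : UL hp p μ ≤ K := RGD.Sup_le fun a ha x hx => ⟨hX a ha.1 ha.2 x hx, hX a ha.1 ha.2 _ (inv_mem hx)⟩
  exact (h1 hu).1 i j h

theorem exists_vec {S : Type} [Fintype S] {A : Matrix S S (KK p)} {v : S → KK p} {i : S} (h : (A *ᵥ v) i ≠ 0) :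
    ∃ j, A i j ≠ 0 ∧ v j ≠ 0 := by
  obtain ⟨j, -, h2⟩ := Finset.exists_ne_zero_of_sum_ne_zero (show ∑ j, A i j * v j ≠ 0 from h)
  exact ⟨j, left_ne_zero_of_mul h2, right_ne_zero_of_mul h2⟩

theorem sub_pos {μ : (Fin l → ℤ) →+ ℝ} {u : YY D p} (hu : u ∈ UL hp p μ) {h : D.Idx → KK p} (hh : InT p h) {i : D.Idx}
    (e : ad D p u h i ≠ h i) : 0 < μ (wL D l i) := by
  have h1 : ((mx u - 1) *ᵥ h) i ≠ 0 := by
    rw [sub_mulVec, one_mulVec]
    exact sub_ne_zero.2 e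
  obtain ⟨j, h2, h4⟩ := exists_vec h1
  have h3 := sub_entry hu h2
  rcases j with j | s
  · rwa [wL_inl, map_zero] at h3
  · exact (h4 (hh s)).elim

theorem rp_inT {w : M.Group} {n : YY D p} (hn : RP hp p w n) {h : D.Idx → KK p} (hh : InT p h) : InT p (ad D p n h) := by
  intro s
  by_contra e
  obtain ⟨j, h2, h4⟩ := exists_vec (A := mx n) e
  rcases j with j | s'
  · have h3 : vec D l s = rA hp w 0 := (adP hp p).mon hn h2
    rw [map_zero] at h3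
    exact (rt_vec hp s).ne_zero h3
  · exact h4 (hh s')

theorem rp_UL {w : M.Group} {n : YY D p} (hn : RP hp p w n) {v : YY D p}
    (hv : v ∈ MS D p (NW M.toCoxeterSystem hp.isCartan w)) : n * v * n⁻¹ ∈ UL hp p (-htR l) := by
  have h2 : MS D p (NW M.toCoxeterSystem hp.isCartan w) ≤ (UL hp p (-htR l)).comap (MulAut.conj n).toMonoidHom :=
    RGD.Sup_le fun a ha x hx => X_le_UL (ha.1.act w) (by
      have h1 := htR_pos (neg_nonneg.2 ha.2.2) (ha.1.act w).neg.ne_zero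
      rwa [map_neg] at h1) ((hn.fr.map a ha.1 x).2 hx)
  exact h2 hv

theorem U_le_UL : MS D p (RGD.Pos M.toCoxeterSystem hp.isCartan) ≤ UL hp p (htR l) :=
  RGD.Sup_mono fun _ ha => ⟨ha.1, htR_pos ha.2 ha.1.ne_zero⟩

theorem ad_inv_ad (a : YY D p) (v : D.Idx → KK p) : ad D p a⁻¹ (ad D p a v) = v := by
  rw [← ad_mul, inv_mul_cancel, map_one]; rfl

/-- the pointwise stabiliser -/
def St (W : Set (D.Idx → KK p)) : Subgroup (YY D p) where
  carrier := {c | ∀ h ∈ W, ad D p c h = h}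
  one_mem' h _ := by rw [map_one]; rfl
  mul_mem' ha hb h hh := by rw [ad_mul, hb h hh, ha h hh]
  inv_mem' {a} ha h hh := by
    conv_lhs => rw [← ha h hh]
    exact ad_inv_ad a h

variable (hp) in
/-- the roots which vanish on `W` -/
def Rz (W : Set (D.Idx → KK p)) : Set (Fin l → ℤ) := {a | RT hp a ∧ ∀ h ∈ W, rl hp h a = 0}

variable {W : Set (D.Idx → KK p)}

theorem cs_Rz : CS hp (Rz hp W) :=
  ⟨⟨fun _ h => h.1, fun x hx y hy z ⟨hz, a, b, _, _, e⟩ => ⟨hz, fun h hh => by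
    rw [e, map_add, map_zsmul, map_zsmul, hx.2 h hh, hy.2 h hh, smul_zero, smul_zero, add_zero]⟩⟩,
    fun a ha => ⟨ha.1.neg, fun h hh => by rw [map_neg, ha.2 h hh, neg_zero]⟩⟩

variable (hW : ∀ h ∈ W, InT p h)

include hW

theorem DD_le : DD D p (Rz hp W) ≤ St W := by
  refine sup_le (RGD.Sup_le fun a ha x hx h hh => ?_) fun t ht h hh => ad_T_T hp ht (hW h hh)
  obtain ⟨u, rfl⟩ := (mem_XX hp ha.1).1 hx
  obtain ⟨r, rfl⟩ := exists_idx hp ha.1
  rw [ad_xc_T hp r u (hW h hh), ha.2 h hh, zero_mul, Pi.single_zero, sub_zero]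

theorem mem_Rz {a : Fin l → ℤ} (ha : RT hp a) {u : KK p} (hu : u ≠ 0) (h : xc hp a u ∈ St W) : a ∈ Rz hp W := by
  obtain ⟨r, rfl⟩ := exists_idx hp ha
  refine ⟨ha, fun v hv => ?_⟩
  have h1 := congrFun (h v hv) (Sum.inr r)
  rw [ad_xc_T hp r u (hW v hv), Pi.sub_apply, Pi.single_eq_same, sub_eq_self] at h1
  exact (mul_eq_zero.1 h1).resolve_right hu

theorem lp_mem : ∀ L : List (Fin l → ℤ), DL.Conv L → (∀ a ∈ L, RT hp a) → ∀ c, (dat hp p).lp L c ∈ St W →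
    (dat hp p).lp L c ∈ DD D p (Rz hp W)
  | [], _, _, _, _ => one_mem _
  | a :: L, ⟨⟨f, hf0, hf⟩, hL⟩, hr, c, h => by
    have ha := hr a List.mem_cons_self
    have hr' : ∀ b ∈ L, RT hp b := fun b hb => hr b (List.mem_cons_of_mem _ hb)
    change xc hp a (c a) * (dat hp p).lp L c ∈ _ at h ⊢
    have h1 : (dat hp p).lp L c ∈ UL hp p ((Int.castAddHom ℝ).comp f) :=
      (dat hp p).lp_mem_S hr' fun b hb _ => ⟨hr' b hb, Int.cast_pos.2 (hf b hb)⟩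
    have h2 : xc hp a (c a) ∈ DD D p (Rz hp W) := by
      by_cases e : c a = 0
      · rw [e, xc_zero hp ha]
        exact one_mem _
      refine Subgroup.mem_sup_left (RGD.le_Sup (S := Rz hp W) ⟨ha, fun v hv => ?_⟩ ((mem_XX hp ha).2 ⟨_, rfl⟩))
      obtain ⟨r, rfl⟩ := exists_idx hp ha
      have h3 : ad D p ((dat hp p).lp L c) v = ad D p (xc hp (vec D l r) (-c (vec D l r))) v := by
        rw [show xc hp (vec D l r) (-c (vec D l r)) = (xc hp (vec D l r) (c (vec D l r)))⁻¹ from (dat hp p).x_neg ha _]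
        conv_rhs => rw [← h v hv, ad_mul, ad_inv_ad]
      by_contra e'
      have h4 := sub_pos h1 (hW v hv) (i := Sum.inr r) (by
        rw [h3, ad_xc_T hp r _ (hW v hv), Pi.sub_apply, Pi.single_eq_same, Ne, sub_eq_self]
        exact mul_ne_zero e' (neg_ne_zero.2 e))
      exact absurd (Int.cast_pos.1 h4) (not_lt.2 hf0.le)
    exact mul_mem h2 (lp_mem L hL hr' c ((mul_mem_cancel_left (DD_le hW h2)).1 h))

theorem U_mem {u : YY D p} (hu : u ∈ MS D p (RGD.Pos M.toCoxeterSystem hp.isCartan)) (h : u ∈ St W) :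
    u ∈ DD D p (Rz hp W) := by
  have := finW hp
  obtain ⟨L, hL, hm⟩ := DL.exists_conv (cs := M.toCoxeterSystem) (h := hp.isCartan)
    (S := RGD.Pos M.toCoxeterSystem hp.isCartan) (fun _ h => h.1) _ (dat hp p).ht_pos_of_pos
  obtain ⟨c, -, rfl⟩ := (dat hp p).exists_lp _ hL (fun a ha => ⟨((hm a).1 ha).1, (dat hp p).ht_pos_of_pos a ((hm a).1 ha)⟩)
    (dat hp p).cl_pos (fun a ha => (hm a).2 ha) hu
  exact lp_mem hW L hL (fun a ha => ((hm a).1 ha).1) c h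

theorem rp_conj {w : M.Group} {n : YY D p} (hn : RP hp p w n) (h : n ∈ St W) {m : YY D p} (hm : m ∈ DD D p (Rz hp W)) :
    n * m * n⁻¹ ∈ DD D p (Rz hp W) := by
  have h2 : DD D p (Rz hp W) ≤ (DD D p (Rz hp W)).comap (MulAut.conj n).toMonoidHom := by
    refine sup_le (RGD.Sup_le fun a ha x hx => Subgroup.mem_sup_left (RGD.le_Sup (S := Rz hp W) ?_
      ((hn.fr.map a ha.1 x).2 hx))) fun t ht => Subgroup.mem_sup_right (hn.conj_mem ht)
    have h1 := (mem_XX hp ha.1).2 ⟨(1 : KK p), rfl⟩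
    obtain ⟨u, e⟩ := (mem_XX hp (ha.1.act w)).1 ((hn.fr.map a ha.1 _).2 h1)
    refine mem_Rz hW (ha.1.act w) (u := u) (fun e' => ?_) ?_
    · rw [e', xc_zero hp (ha.1.act w)] at e
      exact one_ne_zero (((dat hp p).x_eq_one_iff ha.1).1 (conj_eq_one_iff.1 e.symm))
    · show xc hp (rep M.toCoxeterSystem hp.isCartan w a) u ∈ _
      rw [e]
      exact mul_mem (mul_mem h (DD_le hW (Subgroup.mem_sup_left (RGD.le_Sup ha h1)))) (inv_mem h)
  exact h2 hm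

/-- **CONJ** -/
theorem dec {c : YY D p} (hc : c ∈ St W) : ∃ m ∈ DD D p (Rz hp W), ∃ w n, RP hp p w n ∧ n ∈ St W ∧ c = m * n := by
  obtain ⟨u, hu, w, n, hn, v, hv, rfl⟩ := bruhat hp c
  have h1 : ∀ h ∈ W, ad D p u⁻¹ h = h ∧ ad D p n h = h := fun h hh => by
    have e : ad D p u⁻¹ h = ad D p (n * v * n⁻¹) (ad D p n h) := by
      conv_lhs => rw [← hc h hh, ← ad_mul]
      rw [← ad_mul]
      congr 2
      group
    have a1 := fun i => sub_pos (inv_mem (U_le_UL (hp := hp) hu)) (hW h hh) (i := i)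
    have a2 := fun i => sub_pos (rp_UL hn hv) (rp_inT hn (hW h hh)) (i := i)
    rw [← e] at a2
    refine ⟨funext fun i => of_not_not fun e' => ?_, funext fun i => ?_⟩
    · have a3 := a1 i e'
      rcases i with i | s
      · rw [wL_inl, map_zero] at a3
        exact lt_irrefl _ a3
      · refine absurd (a2 _ ?_) (not_lt.2 (neg_nonpos.2 a3.le))
        rwa [rp_inT hn (hW h hh) s, ← hW h hh s]
    · rcases i with i | s
      · have a3 : ¬ 0 < htR l (wL D l (Sum.inl i)) := by rw [wL_inl, map_zero]; exact lt_irrefl _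
        have a4 : ¬ 0 < (-htR l) (wL D l (Sum.inl i)) := by rw [wL_inl, map_zero]; exact lt_irrefl _
        rw [← of_not_not fun e' => a4 (a2 _ e'), of_not_not fun e' => a3 (a1 _ e')]
      · rw [rp_inT hn (hW h hh) s, hW h hh s]
  have h2 : u ∈ St W := inv_mem_iff.1 fun h hh => (h1 h hh).1
  have h3 : n ∈ St W := fun h hh => (h1 h hh).2
  exact ⟨u * (n * v * n⁻¹), mul_mem (U_mem hW hu h2) (rp_conj hW hn h3 (U_mem hW (NW_le_U (hp := hp) w hv)
    ((mul_mem_cancel_left (mul_mem h2 h3)).1 hc))), w, n, hn, h3, by group⟩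

/-- a maximal torus of the stabiliser lies in `DD` -/
theorem conj_T_le {z : YY D p} (hz : ∀ t ∈ TT D (KK p), z * t * z⁻¹ ∈ St W) {t : YY D p} (ht : t ∈ TT D (KK p)) :
    z * t * z⁻¹ ∈ DD D p (Rz hp W) := by
  have := finW hp
  obtain ⟨s, hs, rfl⟩ := (dat hp p).exists_pow_eq_T ht (m := Nat.card M.Group) Nat.card_pos.ne'
  obtain ⟨m, hm, w, n, hn, h1, e⟩ := dec (hp := hp) hW (hz s hs)
  have h2 : ∀ k : ℕ, (m * n) ^ k * (n ^ k)⁻¹ ∈ DD D p (Rz hp W) := fun k => by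
    induction k with
    | zero => rw [pow_zero, pow_zero, mul_inv_cancel]; exact one_mem _
    | succ k ih =>
      rw [show (m * n) ^ (k + 1) * (n ^ (k + 1))⁻¹ = m * (n * ((m * n) ^ k * (n ^ k)⁻¹) * n⁻¹) by
        rw [pow_succ', pow_succ']; group]
      exact mul_mem hm (rp_conj hW hn h1 ih)
  have h3 := hn.pow (Nat.card M.Group)
  rw [pow_card_eq_one'] at h3
  rw [← conj_pow, e]
  exact (mul_mem_cancel_right (inv_mem (Subgroup.mem_sup_right h3.mem_T))).1 (h2 _)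

omit hW

theorem frob_fix {φ : MulAut (YY D p)} {n : ℕ} (h : IsFrob p n φ) (v : D.Idx → KK p) :
    ∃ v', ∀ y, ad D p (φ y) v = v ↔ ad D p y v' = v' := by
  obtain ⟨J, hJ⟩ := h
  have hb := bijective_iterateFrobenius (KK p) p n
  choose v' hv' using fun i => hb.2 (((J⁻¹ : GL D.Idx (KK p)) : Matrix D.Idx D.Idx (KK p)).mulVec v i)
  have e : iterateFrobenius (KK p) p n ∘ v' = ((J⁻¹ : GL D.Idx (KK p)) : Matrix D.Idx D.Idx (KK p)) *ᵥ v := funext hv'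
  have e' : (J : Matrix D.Idx D.Idx (KK p)) *ᵥ (iterateFrobenius (KK p) p n ∘ v') = v := by
    rw [e, mulVec_mulVec, Units.mul_inv, one_mulVec]
  refine ⟨v', fun y => ?_⟩
  have h1 : ad D p (φ y) v = (J : Matrix D.Idx D.Idx (KK p)) *ᵥ (iterateFrobenius (KK p) p n ∘ ad D p y v') := by
    rw [ad_eq, mx, hJ, Units.val_mul, Units.val_mul, ← mulVec_mulVec, ← mulVec_mulVec, ← e]
    congr 1
    exact funext fun i => (RingHom.map_mulVec (iterateFrobenius (KK p) p n) (mx y) v' i).symm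
  rw [h1]
  refine ⟨fun h2 => funext fun i => hb.1 (congrFun (mulVec_injective_iff_isUnit.2 J.isUnit (h2.trans e'.symm)) i), fun h2 => ?_⟩
  rw [h2, e']

end Cfsg.Agent.N2.Ex.K.Mx


namespace Cfsg.Agent.N2.Ex.K

open CoxeterSystem Cfsg Cfsg.Lie Cfsg.Lie.ChevalleyDatum Matrix
open Cfsg.Agent.ChevalleyStructure Cfsg.Agent.ChevalleyStructure.Elts Cfsg.Agent.ChevalleyStructure.CoxeterGeom
  Cfsg.Agent.ChevalleyStructure.CoxeterGeomTypes
open Cfsg.Agent.Tits.Roots Cfsg.Agent.Tits.Core Cfsg.Agent.Nodes Cfsg.Agent.Nodes.Reps Cfsg.Agent.Nodes.BNOf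
  Cfsg.Agent.Nodes.RGDChev Cfsg.Agent.Nodes.Bruhat Cfsg.Agent.Nodes.NormalForm
open Cfsg.Agent.KFacts.RgdField Cfsg.Agent.KFacts.RgdChevCoord
open Cfsg.Agent.BpExc Cfsg.Agent.BpExc.TorCent Cfsg.Agent.BpExc.TorChev Cfsg.Agent.BpExc.Tow
  Cfsg.Agent.BpExc.TowChev Cfsg.Agent.BpExc.Fr Cfsg.Agent.BpExc.LangFr
open Cfsg.Agent.H469.Exc Cfsg.Agent.H129.TorusChar Cfsg.Agent.DS.Ex Cfsg.Agent.DS.Nt Cfsg.Agent.DS.Ex.Tor
  Cfsg.Agent.SB.Exc
open Mx

/-- **[MX]** a toral fixed space is central, or gives an invariant subgroup of maximal rank -/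
theorem boxMx {D : ChevalleyDatum} {l : ℕ} {M : CoxeterMatrix (Fin l)} (hp : IsType D l M) {p : ℕ} [Fact p.Prime]
    {σ : MulAut (YY D p)} {Γ : Subgroup (MulAut (YY D p))} {R : Subgroup (YY D p)} (K : KF hp p σ Γ)
    (hs : ∃ n, IsFrob p n σ) (hE : Ev p σ Γ) (hI : Iv Γ R)
    (ht : ∃ g : YY D p, ∀ v ∈ Fx p (R : Set (YY D p)), InT p (ad D p g v)) (hM : ¬ HasM hp p Γ) :
    Fx p (R : Set (YY D p)) ≤ Fx p (Set.univ : Set (YY D p)) := by
  obtain ⟨g, hg⟩ := ht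
  obtain ⟨e, hs⟩ := hs
  let W : Set (D.Idx → KK p) := ad D p g '' Fx p (R : Set (YY D p))
  have hW : ∀ h ∈ W, InT p h := by
    rintro _ ⟨v, hv, rfl⟩
    exact hg v hv
  have h0 : ∀ c, c ∈ Mx.St W ↔ g⁻¹ * c * g ∈ Mx.St (Fx p (R : Set (YY D p)) : Set (D.Idx → KK p)) := fun c => by
    refine ⟨fun h v hv => by rw [ad_mul, ad_mul, h _ ⟨v, hv, rfl⟩, ad_inv_ad], ?_⟩
    rintro h _ ⟨v, hv, rfl⟩
    conv_rhs => rw [← h v hv, ← ad_mul]
    rw [← ad_mul]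
    congr 2
    group
  have h1 : ∀ φ ∈ Γ, ∀ c ∈ Mx.St (Fx p (R : Set (YY D p)) : Set (D.Idx → KK p)),
      φ c ∈ Mx.St (Fx p (R : Set (YY D p)) : Set (D.Idx → KK p)) := by
    intro φ hφ c hc v hv
    obtain ⟨m, n, a1⟩ := hE φ hφ
    obtain ⟨N, hN, a2⟩ := K.exists_pow (Set.finite_singleton c)
    obtain ⟨v', a3⟩ := frob_fix (a1.mul (hs.pow (N * m - m))) v
    have a4 := (a3 c).2 (hc v' fun r hr => (a3 r).1 (hv _ (hI _ (mul_mem (mul_mem hφ (pow_mem K.mem _))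
      (pow_mem K.mem _)) r hr)))
    rwa [mul_assoc, ← pow_add, Nat.add_sub_cancel' (Nat.le_mul_of_pos_left m hN), MulAut.mul_apply, pow_mul,
      pow_fix (a2 c rfl)] at a4
  have h2 : ∀ φ ∈ Γ, ∀ z, (∀ t ∈ TT D (KK p), z * t * z⁻¹ ∈ Mx.St W) → ∀ t ∈ TT D (KK p),
      g * φ (g⁻¹ * (z * t * z⁻¹) * g) * g⁻¹ ∈ DD D p (Rz hp W) := by
    intro φ hφ z hz t ht
    obtain ⟨φ', a1, ⟨y, ψ, a2⟩, a3⟩ := K.exists_frm hφ (Set.finite_singleton (g⁻¹ * (z * t * z⁻¹) * g))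
    have a4 : ∀ s, g * φ' (g⁻¹ * (z * s * z⁻¹) * g) * g⁻¹ =
        g * φ' (g⁻¹ * z) * y⁻¹ * (y * φ' s * y⁻¹) * (g * φ' (g⁻¹ * z) * y⁻¹)⁻¹ := fun s => by
      simp only [map_mul, map_inv]
      group
    rw [← a3 _ rfl, a4]
    refine conj_T_le hW (fun s hs => ?_) ((a2.tor t).2 ht)
    obtain ⟨s, rfl⟩ : ∃ s', s = y * φ' s' * y⁻¹ := ⟨φ'⁻¹ (y⁻¹ * s * y), by rw [MulAut.apply_inv_self]; group⟩
    rw [← a4, h0, show g⁻¹ * (g * φ' (g⁻¹ * (z * s * z⁻¹) * g) * g⁻¹) * g = φ' (g⁻¹ * (z * s * z⁻¹) * g) by group]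
    exact h1 _ a1 _ ((h0 _).1 (hz s ((a2.tor s).1 hs)))
  by_cases h3 : DD D p (Rz hp W) = ⊤
  · intro v hv y _
    have h4 := (h0 _).1 (DD_le hW (h3.ge (Subgroup.mem_top (g * y * g⁻¹)))) v hv
    rwa [show g⁻¹ * (g * y * g⁻¹) * g = y by group] at h4
  refine (hM ⟨g⁻¹, _, cs_Rz, h3, fun φ hφ y hy => ?_⟩).elim
  rw [inv_inv]
  have h4 : ∀ t ∈ TT D (KK p), g * φ (g⁻¹ * t * g) * g⁻¹ ∈ DD D p (Rz hp W) := fun t ht => by
    have h5 := h2 φ hφ 1 (fun t ht => DD_le (hp := hp) hW (Subgroup.mem_sup_right (by rwa [one_mul, inv_one, mul_one]))) t ht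
    rwa [one_mul, inv_one, mul_one] at h5
  have h5 : DD D p (Rz hp W) ≤ (DD D p (Rz hp W)).comap (MulAut.conj g * φ * MulAut.conj g⁻¹).toMonoidHom := by
    have e : ∀ x, (MulAut.conj g * φ * MulAut.conj g⁻¹).toMonoidHom x = g * φ (g⁻¹ * x * g) * g⁻¹ := fun x => by
      show g * φ (g⁻¹ * x * g⁻¹⁻¹) * g⁻¹ = _
      rw [inv_inv]
    have hT : TT D (KK p) ≤ (DD D p (Rz hp W)).comap (MulAut.conj g * φ * MulAut.conj g⁻¹).toMonoidHom := fun t ht => by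
      rw [Subgroup.mem_comap, e]
      exact h4 t ht
    refine sup_le (RGD.Sup_le fun a ha x hx => ?_) hT
    obtain ⟨u, rfl⟩ := (mem_XX hp ha.1).1 hx
    obtain ⟨t, ht, b1⟩ : ∃ t ∈ TT D (KK p), cX hp t a ≠ 1 := by
      by_contra hc
      push Not at hc
      exact ha.1.ne_zero (sep hp p fun t ht => (hc t ht).trans (isMC_cX hp ht).zero.symm)
    have b2 : xc hp a u = xc hp a (u / (1 - cX hp t a)) * t * (xc hp a (u / (1 - cX hp t a)))⁻¹ * t⁻¹ := by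
      have b3 := T_conj_xc hp ht ha.1 (-(u / (1 - cX hp t a)))
      rw [show xc hp a (-(u / (1 - cX hp t a))) = (xc hp a (u / (1 - cX hp t a)))⁻¹ from (dat hp p).x_neg ha.1 _] at b3
      have b4 : ∀ u v : KK p, xc hp a (u + v) = xc hp a u * xc hp a v := (dat hp p).x_add a ha.1
      rw [mul_assoc, mul_assoc, ← mul_assoc t, b3, ← b4]
      congr 1
      have := sub_ne_zero.2 b1.symm
      field_simp
      ring
    rw [b2]
    refine mul_mem ?_ (hT (inv_mem ht))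
    rw [Subgroup.mem_comap, e]
    have b4 := DD_le hW (Subgroup.mem_sup_left (RGD.le_Sup ha ((mem_XX hp ha.1).2 ⟨u / (1 - cX hp t a), rfl⟩)))
    exact h2 φ hφ _ (fun s hs => mul_mem (mul_mem b4 (DD_le (hp := hp) hW (Subgroup.mem_sup_right hs))) (inv_mem b4)) t ht
  have h6 := h5 hy
  rw [Subgroup.mem_comap] at h6
  convert h6 using 1
  show _ = g * φ (g⁻¹ * y * g⁻¹⁻¹) * g⁻¹
  rw [inv_inv]

end Cfsg.Agent.N2.Ex.K
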