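import Cfsg.Agent.N2.Ex.K.Geo
import Cfsg.Agent.BpExc.RowsUntw

/-!
# S3519, exceptional groups, box (K): the state function of an orbit (helper70)

* `Le ν c f` : the monomials of `f` have `ν`-weight at most `c`; `sb A` : linear substitution; `cp` : weight components;
* `exists_open` : orbits are open in their closure;
* `exists_sta` : the state function of the ideal of the boundary of an orbit.
-/

set_option autoImplicit false
set_option linter.unusedSectionVars false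

namespace Cfsg.Agent.N2.Ex.K

open CoxeterSystem Cfsg Cfsg.Lie Cfsg.Lie.ChevalleyDatum Matrix
open Cfsg.Agent.ChevalleyStructure Cfsg.Agent.ChevalleyStructure.Elts Cfsg.Agent.ChevalleyStructure.CoxeterGeom
  Cfsg.Agent.ChevalleyStructure.CoxeterGeomTypes
open Cfsg.Agent.Tits.Roots Cfsg.Agent.Tits.Core Cfsg.Agent.Nodes Cfsg.Agent.Nodes.Reps Cfsg.Agent.Nodes.BNOf
  Cfsg.Agent.Nodes.RGDChev Cfsg.Agent.Nodes.Bruhat Cfsg.Agent.Nodes.NormalForm
open Cfsg.Agent.KFacts.RgdField Cfsg.Agent.KFacts.RgdChevCoord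
open Cfsg.Agent.BpExc Cfsg.Agent.BpExc.TorCent Cfsg.Agent.BpExc.TorChev Cfsg.Agent.BpExc.Tow
  Cfsg.Agent.BpExc.TowChev Cfsg.Agent.BpExc.Fr Cfsg.Agent.BpExc.LangFr
open Cfsg.Agent.H469.Exc Cfsg.Agent.H129.TorusChar Cfsg.Agent.DS.Ex Cfsg.Agent.DS.Nt Cfsg.Agent.DS.Ex.Tor
  Cfsg.Agent.SB.Exc
open MvPolynomial (aeval coeff monomial weightedHomogeneousComponent)
open Finsupp (weight)

section Pol

variable {K : Type} [Field K] {S : Type} [Fintype S] [DecidableEq S]

/-- all monomials of `f` have weight at most `c` -/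
def Le (ν : S → ℝ) (c : ℝ) (f : MvPolynomial S K) : Prop := ∀ α, coeff α f ≠ 0 → weight ν α ≤ c

variable {ν : S → ℝ}

theorem Le.mono {c c' : ℝ} {f : MvPolynomial S K} (h : Le ν c f) (hc : c ≤ c') : Le ν c' f :=
  fun α hα => (h α hα).trans hc

theorem Le.sum {ι : Type*} {c : ℝ} (T : Finset ι) {f : ι → MvPolynomial S K} (h : ∀ i ∈ T, Le ν c (f i)) :
    Le ν c (∑ i ∈ T, f i) := fun α hα => by
  rw [MvPolynomial.coeff_sum] at hα
  obtain ⟨i, hi, h1⟩ := Finset.exists_ne_zero_of_sum_ne_zero hα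
  exact h i hi α h1

theorem Le.mul {c c' : ℝ} {f g : MvPolynomial S K} (h : Le ν c f) (h' : Le ν c' g) : Le ν (c + c') (f * g) := fun α hα => by
  rw [MvPolynomial.coeff_mul] at hα
  obtain ⟨x, hx, h1⟩ := Finset.exists_ne_zero_of_sum_ne_zero hα
  rw [← Finset.HasAntidiagonal.mem_antidiagonal.1 hx, map_add]
  exact add_le_add (h _ (left_ne_zero_of_mul h1)) (h' _ (right_ne_zero_of_mul h1))

theorem Le.mon (α : S →₀ ℕ) (a : K) : Le ν (weight ν α) (monomial α a) := fun β hβ => by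
  rw [MvPolynomial.coeff_monomial] at hβ
  rw [of_not_not fun e => hβ (if_neg e)]

theorem Le.C (a : K) : Le ν 0 (MvPolynomial.C a : MvPolynomial S K) := by
  have h := Le.mon (ν := ν) 0 a
  rwa [map_zero] at h

theorem Le.pow {c : ℝ} {f : MvPolynomial S K} (h : Le ν c f) (n : ℕ) : Le ν (n • c) (f ^ n) := by
  induction n with
  | zero => rw [zero_smul, pow_zero]; exact Le.C 1
  | succ n ih => rw [succ_nsmul, pow_succ]; exact ih.mul h

theorem Le.prod {ι : Type*} (T : Finset ι) {c : ι → ℝ} {f : ι → MvPolynomial S K} (h : ∀ i, Le ν (c i) (f i)) :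
    Le ν (∑ i ∈ T, c i) (∏ i ∈ T, f i) := by
  classical
  induction T using Finset.induction_on with
  | empty => rw [Finset.sum_empty, Finset.prod_empty]; exact Le.C 1
  | insert a T ha ih => rw [Finset.sum_insert ha, Finset.prod_insert ha]; exact (h a).mul ih

/-- linear substitution -/
noncomputable def sb (A : Matrix S S K) : MvPolynomial S K →ₐ[K] MvPolynomial S K :=
  aeval fun s => ∑ s', monomial (Finsupp.single s' 1) (A s s')

theorem aeval_sb (A : Matrix S S K) (z : S → K) (f : MvPolynomial S K) : aeval z (sb A f) = aeval (A *ᵥ z) f := by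
  rw [← AlgHom.comp_apply]
  congr 1
  refine MvPolynomial.algHom_ext fun s => ?_
  rw [AlgHom.comp_apply, sb, MvPolynomial.aeval_X, MvPolynomial.aeval_X, map_sum]
  refine Finset.sum_congr rfl fun s' _ => ?_
  rw [MvPolynomial.aeval_monomial, Finsupp.prod_single_index (h := fun i k => z i ^ k) (pow_zero _), pow_one]
  rfl

theorem Le.sb {c : ℝ} {f : MvPolynomial S K} (h : Le ν c f) {A : Matrix S S K} (hA : ∀ s s', A s s' ≠ 0 → ν s' ≤ ν s) :
    Le ν c (sb A f) := by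
  rw [f.as_sum, map_sum]
  refine Le.sum _ fun α hα => ?_
  rw [K.sb, MvPolynomial.aeval_monomial, Finsupp.prod_fintype _ _ fun _ => pow_zero _]
  refine ((Le.C _).mul (Le.prod (c := fun s => α s • ν s) _ fun s => Le.pow (Le.sum _ fun s' _ => ?_) _)).mono ?_
  · by_cases e : A s s' = 0
    · rw [e, map_zero]
      exact fun β hβ => (hβ rfl).elim
    · refine (Le.mon _ _).mono ?_
      rw [Finsupp.weight_single, one_smul]
      exact hA s s' e
  · rw [zero_add, ← Finsupp.weight_eq_sum]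
    exact h α (MvPolynomial.mem_support_iff.1 hα)

theorem finite_le (d : ℝ) : {α : S →₀ ℕ | weight (fun _ => (1 : ℝ)) α ≤ d}.Finite := by
  refine (Set.finite_Iic (Finsupp.equivFunOnFinite.symm fun _ : S => ⌈d⌉₊)).subset fun α hα s => ?_
  have h1 : weight (fun _ => (1 : ℝ)) α ≤ d := hα
  rw [Finsupp.weight_eq_sum] at h1
  have h2 := (Finset.single_le_sum (f := fun s => α s • (1 : ℝ)) (fun _ _ => nsmul_nonneg zero_le_one _)
    (Finset.mem_univ s)).trans (h1.trans (Nat.le_ceil d))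
  rw [nsmul_one] at h2
  exact_mod_cast h2

theorem exists_le (f : MvPolynomial S K) : ∃ d, Le (fun _ => (1 : ℝ)) d f := by
  obtain ⟨d, hd⟩ := (f.support.image (weight fun _ => (1 : ℝ))).bddAbove
  exact ⟨d, fun α hα => hd (Finset.mem_coe.2 (Finset.mem_image_of_mem _ (MvPolynomial.mem_support_iff.2 hα)))⟩

theorem aev (z : S → K) {f : MvPolynomial S K} {T : Finset (S →₀ ℕ)} (h : f.support ⊆ T) :
    aeval z f = ∑ α ∈ T, coeff α f * ∏ s, z s ^ α s := by
  rw [MvPolynomial.aeval_eq_eval, MvPolynomial.eval_eq']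
  exact Finset.sum_subset h fun α _ hα => by rw [MvPolynomial.notMem_support_iff.1 hα, zero_mul]

variable {l : ℕ} (w : S → Fin l → ℤ)

/-- the component of weight `χ` -/
noncomputable def cp (χ : Fin l → ℤ) (f : MvPolynomial S K) : MvPolynomial S K := weightedHomogeneousComponent w χ f

theorem coeff_cp (χ : Fin l → ℤ) (f : MvPolynomial S K) (α : S →₀ ℕ) :
    coeff α (cp w χ f) = if weight w α = χ then coeff α f else 0 :=
  MvPolynomial.coeff_weightedHomogeneousComponent _ _ _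

variable {w}

theorem cp_ne {χ : Fin l → ℤ} {f : MvPolynomial S K} {α : S →₀ ℕ} (h : coeff α (cp w χ f) ≠ 0) :
    weight w α = χ ∧ coeff α f ≠ 0 := by
  rw [coeff_cp] at h
  have h1 : weight w α = χ := of_not_not fun e => h (if_neg e)
  exact ⟨h1, by rwa [if_pos h1] at h⟩

theorem exists_coeff {z : S → K} {f : MvPolynomial S K} (h : aeval z f ≠ 0) :
    ∃ α, coeff α f ≠ 0 ∧ ∀ s, α s ≠ 0 → z s ≠ 0 := by
  rw [aev z subset_rfl] at h
  obtain ⟨α, -, h1⟩ := Finset.exists_ne_zero_of_sum_ne_zero h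
  exact ⟨α, left_ne_zero_of_mul h1, fun s hs e =>
    Finset.prod_ne_zero_iff.1 (right_ne_zero_of_mul h1) s (Finset.mem_univ s) (by rw [e, zero_pow hs])⟩

variable (w) in
theorem aev_cp (z : S → K) (f : MvPolynomial S K) {c : (Fin l → ℤ) → K} (hc : IsMC c) :
    aeval (fun s => c (w s) * z s) f = ∑ χ ∈ f.support.image (weight w), c χ * aeval z (cp w χ f) := by
  have h1 : ∀ χ, c χ * aeval z (cp w χ f) = ∑ α ∈ f.support, c χ * (coeff α (cp w χ f) * ∏ s, z s ^ α s) := fun χ => by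
    rw [aev z (T := f.support) fun α hα => MvPolynomial.mem_support_iff.2 (cp_ne (MvPolynomial.mem_support_iff.1 hα)).2,
      Finset.mul_sum]
  rw [aev _ subset_rfl, Finset.sum_congr rfl fun χ _ => h1 χ, Finset.sum_comm]
  refine Finset.sum_congr rfl fun α hα => ?_
  rw [Finset.sum_eq_single (weight w α) (fun χ _ e => by rw [coeff_cp, if_neg e.symm, zero_mul, mul_zero])
    (fun e => (e (Finset.mem_image_of_mem _ hα)).elim), coeff_cp, if_pos rfl, Finsupp.weight_eq_sum, hc.sum,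
    mul_left_comm, ← Finset.prod_mul_distrib]
  congr 1
  exact Finset.prod_congr rfl fun s _ => by rw [mul_pow, hc.nsmul]

variable (w) in
theorem exists_cp {z : S → K} {f : MvPolynomial S K} (h : aeval z f ≠ 0) : ∃ χ, aeval z (cp w χ f) ≠ 0 := by
  have h1 := aev_cp w z f (c := fun _ => 1) ⟨rfl, fun _ _ => (mul_one _).symm⟩
  simp only [one_mul] at h1
  rw [h1] at h
  obtain ⟨χ, -, h2⟩ := Finset.exists_ne_zero_of_sum_ne_zero h
  exact ⟨χ, h2⟩

theorem map_weight (μ : (Fin l → ℤ) →+ ℝ) (α : S →₀ ℕ) : μ (weight w α) = weight (fun s => μ (w s)) α := by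
  rw [Finsupp.weight_eq_sum, Finsupp.weight_eq_sum, map_sum]
  exact Finset.sum_congr rfl fun s _ => map_nsmul _ _ _

open Classical in
variable (w) in
/-- the limit along `μ` -/
noncomputable def lim (μ : (Fin l → ℤ) →+ ℝ) (v : S → K) : S → K := fun s => if μ (w s) = 0 then v s else 0

theorem aev_lim {μ : (Fin l → ℤ) →+ ℝ} {v : S → K} (hv : ∀ s, v s ≠ 0 → 0 ≤ μ (w s)) {χ : Fin l → ℤ} (h0 : μ χ = 0)
    (f : MvPolynomial S K) : aeval (lim w μ v) (cp w χ f) = aeval v (cp w χ f) := by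
  rw [aev _ subset_rfl, aev _ subset_rfl]
  refine Finset.sum_congr rfl fun α hα => ?_
  congr 1
  by_cases h1 : ∀ s, α s ≠ 0 → v s ≠ 0
  · have h2 := (cp_ne (MvPolynomial.mem_support_iff.1 hα)).1
    rw [← h2, map_weight, Finsupp.weight_eq_sum, Finset.sum_eq_zero_iff_of_nonneg fun s _ => by
      by_cases e : α s = 0
      · rw [e, zero_smul]
      · exact nsmul_nonneg (hv s (h1 s e)) _] at h0
    refine Finset.prod_congr rfl fun s _ => ?_
    by_cases e : α s = 0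
    · rw [e, pow_zero, pow_zero]
    · rw [lim, if_pos ((smul_eq_zero.1 (h0 s (Finset.mem_univ s))).resolve_left e)]
  · push Not at h1
    obtain ⟨s, e, e'⟩ := h1
    rw [Finset.prod_eq_zero (Finset.mem_univ s) (by rw [lim, e', ite_self, zero_pow e]),
      Finset.prod_eq_zero (Finset.mem_univ s) (by rw [e', zero_pow e])]

theorem indep {G ι : Type} [Group G] {c : ι → G →* K} (hc : Function.Injective c) (T : Finset ι) (a : ι → K)
    (h : ∀ g, ∑ i ∈ T, c i g * a i = 0) : ∀ i ∈ T, a i = 0 := by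
  refine linearIndependent_iff'.1 ((linearIndependent_monoidHom G K).comp c hc) T a (funext fun g => ?_)
  rw [Finset.sum_apply]
  exact (Finset.sum_congr rfl fun i _ => mul_comm _ _).trans (h g)

/-- polynomials vanishing on `Z` -/
def Vn (Z : Set (S → K)) (f : MvPolynomial S K) : Prop := ∀ z ∈ Z, aeval z f = 0

/-- the closure -/
def Cls (Z : Set (S → K)) : Set (S → K) := {z | ∀ f, Vn Z f → aeval z f = 0}

end Pol

variable {D : ChevalleyDatum} {l : ℕ} {M : CoxeterMatrix (Fin l)} {hp : IsType D l M} {p : ℕ} [Fact p.Prime]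
  {S : Type} [Fintype S] [DecidableEq S] (P : PRep hp p S)

/-- stable sets -/
def PRep.Stb (Z : Set (S → KK p)) : Prop := ∀ g, ∀ z ∈ Z, P.ρ g *ᵥ z ∈ Z

/-- orbits -/
def PRep.Ob (x : S → KK p) : Set (S → KK p) := {z | ∃ h, P.ρ h *ᵥ x = z}

theorem PRep.mul_vec (g h : YY D p) (z : S → KK p) : P.ρ (g * h) *ᵥ z = P.ρ g *ᵥ P.ρ h *ᵥ z := by
  rw [map_mul, mulVec_mulVec]

theorem PRep.inv_vec (g : YY D p) (z : S → KK p) : P.ρ g⁻¹ *ᵥ P.ρ g *ᵥ z = z := by
  rw [← P.mul_vec, inv_mul_cancel, map_one, one_mulVec]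

theorem PRep.stb_ob (x : S → KK p) : P.Stb (P.Ob x) := by
  rintro g _ ⟨h, rfl⟩
  exact ⟨g * h, P.mul_vec g h x⟩

variable {P}

theorem PRep.Stb.vn {Z : Set (S → KK p)} (h : P.Stb Z) {f : MvPolynomial S (KK p)} (hf : Vn Z f) (g : YY D p) :
    Vn Z (sb (P.ρ g) f) := fun z hz => by
  rw [aeval_sb]
  exact hf _ (h g z hz)

theorem PRep.Stb.cls {Z : Set (S → KK p)} (h : P.Stb Z) : P.Stb (Cls Z) := fun g z hz f hf => by
  rw [← aeval_sb]
  exact hz _ (h.vn hf g)

theorem PRep.Stb.diff {Z Z' : Set (S → KK p)} (h : P.Stb Z) (h' : P.Stb Z') : P.Stb (Z \ Z') :=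
  fun g z hz => ⟨h g z hz.1, fun e => hz.2 (P.inv_vec g z ▸ h' g⁻¹ _ e)⟩

variable (hp p) in
/-- the characters of the torus -/
noncomputable def chT (χ : Fin l → ℤ) : TT D (KK p) →* KK p where
  toFun t := cX hp (t : YY D p) χ
  map_one' := cX_one hp χ
  map_mul' s t := cX_mul hp s.2 t.2 χ

theorem PRep.Stb.cp {Z : Set (S → KK p)} (h : P.Stb Z) {f : MvPolynomial S (KK p)} (hf : Vn Z f) (χ : Fin l → ℤ) :
    Vn Z (cp P.w χ f) := by
  intro z hz
  by_cases hχ : χ ∈ f.support.image (weight P.w)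
  · have h1 : Function.Injective (chT hp p) := fun a b e => sep hp p fun t ht => by
      have h2 : chT hp p a ⟨t, ht⟩ = chT hp p b ⟨t, ht⟩ := by rw [e]
      exact h2
    refine indep h1 _ (fun χ => aeval z (K.cp P.w χ f)) (fun t => ?_) χ hχ
    have h2 := hf _ (h t z hz)
    rw [P.tor t t.2, show diagonal (fun s => cX hp (t : YY D p) (P.w s)) *ᵥ z = fun s => cX hp (t : YY D p) (P.w s) * z s from
      funext fun s => mulVec_diagonal _ _ s, aev_cp P.w z f (isMC_cX hp t.2)] at h2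
    exact h2
  · by_contra hc
    obtain ⟨α, h1, -⟩ := exists_coeff hc
    exact hχ ((cp_ne h1).1 ▸ Finset.mem_image_of_mem _ (MvPolynomial.mem_support_iff.2 (cp_ne h1).2))

theorem PRep.Stb.lim {Z : Set (S → KK p)} (h : P.Stb Z) {μ : (Fin l → ℤ) →+ ℝ} {v : S → KK p} (hZ : v ∈ Z)
    (hv : ∀ s, v s ≠ 0 → 0 ≤ μ (P.w s)) : lim P.w μ v ∈ Cls Z := by
  intro f hf
  by_contra hc
  obtain ⟨χ, h1⟩ := exists_cp P.w hc
  obtain ⟨α, h2, h3⟩ := exists_coeff h1
  have h4 : μ χ = 0 := by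
    rw [← (cp_ne h2).1, map_weight, Finsupp.weight_eq_sum]
    refine Finset.sum_eq_zero fun s _ => ?_
    by_cases e : α s = 0
    · rw [e, zero_smul]
    · rw [of_not_not fun e' => h3 s e (if_neg e'), smul_zero]
  rw [aev_lim hv h4] at h1
  exact h1 (h.cp hf χ v hZ)

variable (P)

/-- **Orbits are open in their closure.** -/
theorem PRep.exists_open (x : S → KK p) : ∃ a : MvPolynomial S (KK p), (∃ h, aeval (P.ρ h *ᵥ x) a ≠ 0) ∧
    Vn (Cls (P.Ob x) \ P.Ob x) a := by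
  obtain ⟨A, hA⟩ := P.poly
  have hG : LangThm.Gam (fun r : (Set.univ : Set ℕ) => LangThm.xP hp.inList (r : ℕ) (Polynomial.X : Polynomial (KK p)))
      (KK p) = D.group (KK p) := by rw [LangThm.gam_eq, ← TorAll.group_eq_MM hp]
  obtain ⟨τ, hτ, γ, hγ, h1⟩ := LangThm.exists_dense
    (X := fun r : (Set.univ : Set ℕ) => LangThm.xP hp.inList (r : ℕ) (Polynomial.X : Polynomial (KK p)))
    fun i => by rw [LangThm.ev_xP, Polynomial.eval_X, xG_zero]
  let B : S → MvPolynomial (D.Idx × D.Idx) (KK p) := fun s => ∑ s', A s s' * MvPolynomial.C (x s')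
  have hB : ∀ y : YY D p, (fun s => aeval (LangThm.co (y : GL D.Idx (KK p))) (B s)) = P.ρ y *ᵥ x := fun y => funext fun s => by
    rw [map_sum]
    exact Finset.sum_congr rfl fun s' _ => by rw [map_mul, ← hA, MvPolynomial.aeval_C]; rfl
  have hs : ∀ s : τ → KK p, ∃ y : YY D p, ∀ i, aeval s (aeval (LangThm.co γ) (B i)) = (P.ρ y *ᵥ x) i := fun s => by
    refine ⟨⟨LangThm.mp (aeval s) γ, hG.le (LangThm.mp_mem _ hγ)⟩, fun i => ?_⟩
    rw [← hB, MvPolynomial.comp_aeval_apply]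
    rfl
  obtain ⟨a, h2, h3⟩ := LangThm.exists_open fun s => aeval (LangThm.co γ) (B s)
  refine ⟨a, ?_, fun z hz => ?_⟩
  · by_contra hc
    push Not at hc
    refine h2 (LangThm.mem_van.2 (MvPolynomial.funext fun s => ?_))
    obtain ⟨y, hy⟩ := hs s
    rw [map_zero, ← MvPolynomial.aeval_eq_eval, MvPolynomial.comp_aeval_apply, funext hy, hc]
  · by_contra hc
    have h7 : LangThm.van (KK p) (fun s => aeval (LangThm.co γ) (B s)) ≤ LangThm.van (KK p) z := by
      refine fun f hf => LangThm.mem_van.2 (hz.1 f ?_)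
      rintro _ ⟨y, rfl⟩
      have h5 : aeval B f ∈ LangThm.van (KK p) (LangThm.co γ) := by
        rw [LangThm.mem_van, MvPolynomial.comp_aeval_apply]
        exact LangThm.mem_van.1 hf
      have h6 := LangThm.mem_van.1 (h1 y (hG.ge y.2) h5)
      rwa [MvPolynomial.comp_aeval_apply, hB] at h6
    obtain ⟨s, h4⟩ := h3 z h7 hc
    obtain ⟨y, hy⟩ := hs s
    exact hz.2 ⟨y, funext fun i => (hy i).symm.trans (h4 i)⟩

/-- **The state function of an orbit.** -/
theorem PRep.exists_sta (x : S → KK p) : ∃ S₀, Sta hp p S₀ ∧ ∀ (g : YY D p) (μ : (Fin l → ℤ) →+ ℝ),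
    (∀ s, (P.ρ g⁻¹ *ᵥ x) s ≠ 0 → 0 ≤ μ (P.w s)) → lim P.w μ (P.ρ g⁻¹ *ᵥ x) ∉ P.Ob x → ∀ χ ∈ S₀ g, 0 < μ χ := by
  obtain ⟨a, ⟨h, h1⟩, h2⟩ := P.exists_open x
  obtain ⟨d, hd⟩ := exists_le a
  have hZ : P.Stb (Cls (P.Ob x) \ P.Ob x) := (P.stb_ob x).cls.diff (P.stb_ob x)
  refine ⟨fun g => {χ | ∃ f, Le (fun _ => (1 : ℝ)) d f ∧ Vn (Cls (P.Ob x) \ P.Ob x) f ∧
    aeval (P.ρ g⁻¹ *ᵥ x) (cp P.w χ f) ≠ 0}, ⟨⟨_, (finite_le d).image (weight P.w), ?_⟩, fun g => ?_, ?_⟩, ?_⟩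
  · rintro g χ ⟨f, a1, -, a3⟩
    obtain ⟨α, a4, -⟩ := exists_coeff a3
    exact ⟨α, a1 α (cp_ne a4).2, (cp_ne a4).1⟩
  · obtain ⟨χ, a1⟩ := exists_cp P.w (z := P.ρ g⁻¹ *ᵥ x) (f := sb (P.ρ (h * g)) a) (by
      rwa [aeval_sb, ← P.mul_vec, mul_inv_cancel_right])
    exact ⟨χ, _, hd.sb fun _ _ _ => le_rfl, hZ.vn h2 _, a1⟩
  · rintro μ m hm g χ ⟨f, a1, a2, a3⟩
    rw [_root_.mul_inv_rev, P.mul_vec, ← aeval_sb] at a3
    obtain ⟨χ', a4⟩ := exists_cp P.w a3
    refine ⟨χ', ⟨_, Le.sb (fun α hα => a1 α (cp_ne hα).2) fun _ _ _ => le_rfl, hZ.vn (hZ.cp a2 χ) _, a4⟩, ?_⟩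
    obtain ⟨α, a5, -⟩ := exists_coeff a4
    rw [← (cp_ne a5).1, map_weight]
    refine Le.sb (f := cp P.w χ f) (fun β hβ => ?_) (fun s s' e => P.tri (inv_mem hm) e) α (cp_ne a5).2
    rw [← map_weight, (cp_ne hβ).1]
  · rintro g μ hv hl χ ⟨f, -, a2, a3⟩
    obtain ⟨α, a4, a5⟩ := exists_coeff a3
    refine lt_of_le_of_ne ?_ fun e => a3 ?_
    · rw [← (cp_ne a4).1, map_weight, Finsupp.weight_eq_sum]
      refine Finset.sum_nonneg fun s _ => ?_
      by_cases e : α s = 0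
      · rw [e, zero_smul]
      · exact nsmul_nonneg (hv s (a5 s e)) _
    · rw [← aev_lim hv e.symm]
      exact hZ.cp a2 χ _ ⟨(P.stb_ob x).lim ⟨_, rfl⟩ hv, hl⟩

end Cfsg.Agent.N2.Ex.K
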